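import Cfsg.Agent.H57.RuUniq.Rows

/-!
A bound on the automorphisms of the graph fixing a point.
-/

set_option autoImplicit false
set_option maxRecDepth 100000

noncomputable section

namespace H57.RUU

open H93.Coset (force force_eq allRange allRange_spec ev ev_append)

/-- the automorphisms of the graph fixing 0 -/
def Aut0 : Subgroup (Equiv.Perm (Fin 4060)) where
  carrier := {σ | σ 0 = 0 ∧ ∀ x y, R0 (σ x) (σ y) ↔ R0 x y}
  one_mem' := ⟨rfl, fun _ _ => Iff.rfl⟩
  mul_mem' := fun ⟨a, a'⟩ ⟨b, b'⟩ =>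
    ⟨by rw [Equiv.Perm.mul_apply, b, a], fun x y => (a' _ _).trans (b' x y)⟩
  inv_mem' := fun {σ} ⟨a, a'⟩ => ⟨by rw [Equiv.Perm.inv_eq_iff_eq, a], fun x y => by
    conv_rhs => rw [← Equiv.apply_symm_apply σ x, ← Equiv.apply_symm_apply σ y, a']
    rfl⟩

/-- the key of a point: adjacency to 0 and to the chosen points -/
def keyA (x : ℕ) : ℕ := (autKey >>> (32 * x)) % 2 ^ 32

/-- the piece of a point -/
def pcA (x : ℕ) : ℕ := (keyA x >>> 1) % 8

/-- the number of common neighbours of 0, `dR` and a representative -/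
def pieceVal (k : ℕ) : ℕ := cntBits (Nat.land (Nat.land maskOne (rowM posB)) (rowM (posPieces.getD k 0)))

/-- the pieces are told apart -/
def pieceOK : Bool :=
  allRange 0 4060 (fun x => (List.range 6).all (fun k => Nat.testBit (bPieces.getD k 0) x == Nat.beq (pcA x) (k + 1)) &&
    bif Nat.beq x 0 || Nat.beq x 1 then Nat.beq (pcA x) 0 else Nat.blt 0 (pcA x) && Nat.blt (pcA x) 7) &&
  Nat.beq bSOrb.length 6 &&
  (List.range 6).all (fun k => Nat.blt (posPieces.getD k 0) 73 &&
    Nat.beq (rowV (posPieces.getD k 0)) (bSOrb.getD k (0, [], 0)).1 &&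
    Nat.testBit (bPieces.getD k 0) (bSOrb.getD k (0, [], 0)).1) &&
  force (pieceVal 0) fun v0 => force (pieceVal 1) fun v1 => force (pieceVal 2) fun v2 =>
    force (pieceVal 3) fun v3 => force (pieceVal 4) fun v4 => force (pieceVal 5) fun v5 =>
      let vs := [v0, v1, v2, v3, v4, v5]
      (List.range 6).all fun k => (List.range 6).all fun l =>
        Nat.beq k l || !(Nat.beq (vs.getD k 0) (vs.getD l 0)) ||
          !(Nat.testBit maskOne (bSOrb.getD k (0, [], 0)).1 == Nat.testBit maskOne (bSOrb.getD l (0, [], 0)).1)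

/-- the keys are the stated adjacencies -/
def keyOK : Bool :=
  allRange 0 4060 fun x => (Nat.testBit (keyA x) 0 == Nat.testBit maskOne x) &&
    (List.range autSeq.length).all fun j =>
      Nat.testBit (keyA x) (j + 4) == Nat.testBit (rowM (autSeq.getD j (0, 0)).1) x

/-- increasing keys -/
def incrA : ℕ → List ℕ → Bool
  | _, [] => true
  | prev, c :: l => Nat.blt c 4060 && force (keyA c + 1) fun k => Nat.blt prev k && incrA k l

/-- the points fixed at a step -/
def prevA (k : ℕ) : List ℕ := 0 :: (autSeq.take k).map fun e => rowV e.1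

/-- the known bits of a key -/
def modA (k : ℕ) : ℕ := bif Nat.beq k 0 then 2 else 2 ^ (k + 4)

/-- the points with the signature of the chosen point -/
def candA (k x : ℕ) : Bool :=
  Nat.beq (keyA x % modA k) (keyA (rowV (autSeq.getD k (0, 0)).1) % modA k) &&
    !((prevA k).any (Nat.beq x))

/-- the class sizes are as stated -/
def stepA (k : ℕ) : Bool :=
  Nat.blt (autSeq.getD k (0, 0)).1 73 &&
    Nat.beq ((List.range 4060).countP fun x => candA k x) (autSeq.getD k (0, 0)).2 &&
    !((prevA k).any (Nat.beq (rowV (autSeq.getD k (0, 0)).1)))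

theorem key_ok : keyOK = true := by decide +kernel

theorem incrA_ok : incrA 0 autOrder = true ∧ autOrder.length = 4060 := by decide +kernel

theorem piece_ok : pieceOK = true := by decide +kernel

theorem seq_zero : rowV (autSeq.getD 0 (0, 0)).1 = 1 := by decide +kernel

theorem stepA_ok : (List.range autSeq.length).all stepA = true := by decide +kernel

theorem prodA_ok : (autSeq.map (·.2)).prod < 4060 * 35942400 := by decide +kernel

theorem incrA_spec : ∀ (l : List ℕ) (prev : ℕ), incrA prev l = true →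
    (∀ c ∈ l, c < 4060 ∧ prev < keyA c + 1) ∧ (l.map keyA).Nodup := by
  intro l
  induction l with
  | nil => simp
  | cons c l ih =>
    intro prev h
    simp only [incrA, force_eq, Bool.and_eq_true, Nat.blt_eq] at h
    obtain ⟨h1, h3, h4⟩ := h
    obtain ⟨i1, i2⟩ := ih _ h4
    refine ⟨fun d hd => ?_, ?_⟩
    · rcases List.mem_cons.mp hd with rfl | hd
      · exact ⟨h1, h3⟩
      · obtain ⟨j1, j2⟩ := i1 d hd
        exact ⟨j1, lt_trans h3 j2⟩
    · rw [List.map_cons, List.nodup_cons]
      refine ⟨fun hm => ?_, i2⟩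
      obtain ⟨d, hd, he⟩ := List.mem_map.mp hm
      have := (i1 d hd).2
      omega

theorem keyA_inj : Function.Injective fun x : Fin 4060 => keyA x.val := by
  obtain ⟨h1, h2⟩ := incrA_spec _ _ incrA_ok.1
  have hbound : (autOrder.map keyA).toFinset ⊆ Finset.univ.image fun x : Fin 4060 => keyA x.val := by
    intro y hy
    obtain ⟨c, hc, rfl⟩ := List.mem_map.mp (List.mem_toFinset.mp hy)
    exact Finset.mem_image.mpr ⟨⟨c, (h1 c hc).1⟩, Finset.mem_univ _, rfl⟩
  have hle := Finset.card_le_card hbound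
  rw [List.toFinset_card_of_nodup h2, List.length_map, incrA_ok.2] at hle
  intro a b h
  refine Finset.injOn_of_card_image_eq (s := Finset.univ) (f := fun x : Fin 4060 => keyA x.val) ?_
    (Finset.mem_univ a) (Finset.mem_univ b) h
  exact le_antisymm Finset.card_image_le (by simpa using hle)

/-- automorphisms fixing the first points -/
def fixA (k : ℕ) : Subgroup (Equiv.Perm (Fin 4060)) where
  carrier := {σ | σ ∈ Aut0 ∧ ∀ c : Fin 4060, c.val ∈ prevA k → σ c = c}
  one_mem' := ⟨Aut0.one_mem, fun _ _ => rfl⟩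
  mul_mem' := fun ⟨a, a'⟩ ⟨b, b'⟩ =>
    ⟨Aut0.mul_mem a b, fun c hc => by rw [Equiv.Perm.mul_apply, b' c hc, a' c hc]⟩
  inv_mem' := fun ⟨a, a'⟩ => ⟨Aut0.inv_mem a, fun c hc => by rw [Equiv.Perm.inv_eq_iff_eq, a' c hc]⟩

theorem key_bit_zero (x : Fin 4060) : Nat.testBit (keyA x.val) 0 = true ↔ R0 0 x := by
  have h := allRange_spec key_ok x.val (Nat.zero_le _) (by omega)
  simp only [Bool.and_eq_true, beq_iff_eq] at h
  rw [h.1, R0_zero]
  exact mem_maskSet.symm

theorem key_bit_succ (x : Fin 4060) {j : ℕ} (hj : j < autSeq.length)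
    (hv : rowV (autSeq.getD j (0, 0)).1 < 4060) :
    Nat.testBit (keyA x.val) (j + 4) = true ↔ R0 ⟨rowV (autSeq.getD j (0, 0)).1, hv⟩ x := by
  have h := allRange_spec key_ok x.val (Nat.zero_le _) (by omega)
  simp only [Bool.and_eq_true, beq_iff_eq, List.all_eq_true, List.mem_range] at h
  have hs := List.all_eq_true.mp stepA_ok j (List.mem_range.mpr hj)
  simp only [stepA, Bool.and_eq_true, Nat.blt_eq] at hs
  rw [h.2 j hj]
  exact ((row_spec _ hs.1.1).2 x).symm

theorem seq_lt {j : ℕ} (hj : j < autSeq.length) : rowV (autSeq.getD j (0, 0)).1 < 4060 := by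
  have hs := List.all_eq_true.mp stepA_ok j (List.mem_range.mpr hj)
  simp only [stepA, Bool.and_eq_true, Nat.blt_eq] at hs
  exact (row_spec _ hs.1.1).1

theorem mem_prevA {j k : ℕ} (hjk : j < k) (hj : j < autSeq.length) :
    rowV (autSeq.getD j (0, 0)).1 ∈ prevA k := by
  refine List.mem_cons_of_mem _ (List.mem_map.mpr ⟨autSeq.getD j (0, 0), ?_, rfl⟩)
  rw [List.mem_take_iff_getElem]
  exact ⟨j, by omega, by rw [List.getD_eq_getElem _ _ hj]⟩

/-- an invariant of a pair of points under automorphisms fixing two adjacent points -/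
def vA (x : Fin 4060) : ℕ := (nbr 0 ∩ nbr dR ∩ nbr x).card

theorem nbr_aut {σ : Equiv.Perm (Fin 4060)} (hσ : ∀ x y, R0 (σ x) (σ y) ↔ R0 x y) (x : Fin 4060) :
    nbr (σ x) = (nbr x).image σ := by
  ext y
  obtain ⟨z, rfl⟩ := σ.surjective y
  rw [Finset.mem_image, mem_nbr, hσ]
  exact ⟨fun h => ⟨z, mem_nbr.mpr h, rfl⟩, fun ⟨w, hw, e⟩ => σ.injective e ▸ mem_nbr.mp hw⟩

theorem vA_aut {σ : Equiv.Perm (Fin 4060)} (hσ : ∀ x y, R0 (σ x) (σ y) ↔ R0 x y) (h0 : σ 0 = 0)
    (h1 : σ dR = dR) (x : Fin 4060) : vA (σ x) = vA x := by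
  have e0 := nbr_aut hσ 0
  have e1 := nbr_aut hσ dR
  rw [h0] at e0
  rw [h1] at e1
  rw [vA, vA, nbr_aut hσ x]
  conv_lhs => rw [e0, e1, ← Finset.image_inter _ _ σ.injective, ← Finset.image_inter _ _ σ.injective]
  exact Finset.card_image_of_injective _ σ.injective

theorem piece_data (x : Fin 4060) (h : 0 < pcA x.val) :
    ∃ k < 6, pcA x.val = k + 1 ∧ vA x = pieceVal k ∧
      (R0 0 x ↔ Nat.testBit maskOne (bSOrb.getD k (0, [], 0)).1 = true) := by
  have hp := piece_ok
  simp only [pieceOK, Bool.and_eq_true] at hp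
  obtain ⟨⟨⟨hall, hlen⟩, hrep⟩, -⟩ := hp
  have hx := allRange_spec hall x.val (Nat.zero_le _) (by omega)
  simp only [Bool.and_eq_true, List.all_eq_true, List.mem_range, beq_iff_eq] at hx
  have hk6 : pcA x.val - 1 < 6 := by
    by_cases hz : (Nat.beq x.val 0 || Nat.beq x.val 1) = true
    · have := hx.2; rw [hz, cond_true, Nat.beq_eq] at this; omega
    · have := hx.2
      rw [show (Nat.beq x.val 0 || Nat.beq x.val 1) = false from Bool.eq_false_iff.mpr hz, cond_false] at this
      simp only [Bool.and_eq_true, Nat.blt_eq] at this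
      omega
  set k := pcA x.val - 1 with hk
  refine ⟨k, hk6, by omega, ?_⟩
  have hmem : Nat.testBit (bPieces.getD k 0) x.val = true := by
    rw [hx.1 k hk6, Nat.beq_eq]
    omega
  have hr := List.all_eq_true.mp hrep k (List.mem_range.mpr hk6)
  simp only [Bool.and_eq_true, Nat.blt_eq, Nat.beq_eq] at hr
  obtain ⟨⟨hpos, hrow⟩, hself⟩ := hr
  rw [Nat.beq_eq] at hlen
  have hmemP : bPieces.getD k 0 ∈ bPieces := by
    rw [List.getD_eq_getElem _ _ (show k < bPieces.length by simp [bPieces, hlen, hk6])]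
    exact List.getElem_mem _
  have hlt : (bSOrb.getD k (0, [], 0)).1 < 4060 := hrow ▸ (row_spec _ hpos).1
  set r : Fin 4060 := ⟨_, hlt⟩ with hr'
  have hrM : r ∈ maskSet (bPieces.getD k 0) := mem_maskSet.mpr hself
  obtain ⟨g, hg, e⟩ := mem_orb.mp (bPieces_orb _ hmemP r hrM (mem_maskSet.mpr hmem))
  obtain ⟨hgM, hgd⟩ := mem_fixIn.mp hg
  have hg0 := mem_M.mp hgM
  constructor
  · rw [← e, vA_aut (fun a b => R0_smul g) hg0 hgd, vA, pieceVal, ← card_maskSet, maskSet_land, maskSet_land]
    obtain ⟨-, -, -, -, -, -, -, -, hB, -, hB', -⟩ := unions_ok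
    rw [nbr_zero, nbr_row hB (x := dR) hB'.symm, nbr_row hpos (x := r) hrow.symm]
    rfl
  · rw [← e, ← hg0, R0_smul, R0_zero]
    exact mem_maskSet

theorem pcA_aut {σ : Equiv.Perm (Fin 4060)} (hσ : σ ∈ Aut0) (h1 : σ dR = dR) (x : Fin 4060) :
    pcA (σ x).val = pcA x.val := by
  have hp := piece_ok
  simp only [pieceOK, Bool.and_eq_true] at hp
  obtain ⟨⟨⟨hall, -⟩, -⟩, hd⟩ := hp
  have hz : ∀ y : Fin 4060, pcA y.val = 0 ↔ y = 0 ∨ y = dR := by
    intro y
    have hy := allRange_spec hall y.val (Nat.zero_le _) (by omega)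
    simp only [Bool.and_eq_true] at hy
    by_cases hc : (Nat.beq y.val 0 || Nat.beq y.val 1) = true
    · have h2 := hy.2
      rw [hc, cond_true, Nat.beq_eq] at h2
      rw [Bool.or_eq_true, Nat.beq_eq, Nat.beq_eq] at hc
      exact ⟨fun _ => hc.imp (fun h => Fin.ext h) (fun h => Fin.ext h), fun _ => h2⟩
    · have h2 := hy.2
      rw [show (Nat.beq y.val 0 || Nat.beq y.val 1) = false from Bool.eq_false_iff.mpr hc, cond_false, Bool.and_eq_true,
        Nat.blt_eq] at h2
      rw [Bool.or_eq_true, Nat.beq_eq, Nat.beq_eq] at hc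
      refine ⟨fun h => absurd h (Nat.ne_of_gt h2.1), fun h => absurd ?_ hc⟩
      exact h.imp (fun h => congrArg Fin.val h) (fun h => congrArg Fin.val h)
  by_cases h : pcA x.val = 0
  · rcases (hz x).mp h with rfl | rfl
    · rw [hσ.1]
    · rw [h1]
  have h' : pcA (σ x).val ≠ 0 := fun e => by
    rcases (hz _).mp e with e' | e'
    · exact h ((hz x).mpr (Or.inl (σ.injective (e'.trans hσ.1.symm))))
    · exact h ((hz x).mpr (Or.inr (σ.injective (e'.trans h1.symm))))
  obtain ⟨k, hk, ek, vk, rk⟩ := piece_data x (Nat.pos_of_ne_zero h)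
  obtain ⟨l, hl, el', vl, rl⟩ := piece_data (σ x) (Nat.pos_of_ne_zero h')
  have hv : pieceVal l = pieceVal k := by rw [← vl, ← vk, vA_aut hσ.2 hσ.1 h1]
  have hadj : Nat.testBit maskOne (bSOrb.getD l (0, [], 0)).1 = Nat.testBit maskOne (bSOrb.getD k (0, [], 0)).1 := by
    rw [Bool.eq_iff_iff, ← rk, ← rl]
    conv_lhs => rw [← hσ.1]
    exact hσ.2 0 x
  have hlk : l = k := by
    simp only [force_eq, List.all_eq_true, List.mem_range] at hd
    have h3 := hd l hl k hk
    simp only [Bool.or_eq_true, Bool.not_eq_true', Nat.beq_eq, hadj, BEq.rfl] at h3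
    rcases h3 with (h3 | h3) | h3
    · exact h3
    · exfalso
      have hget : ∀ j < 6, [pieceVal 0, pieceVal 1, pieceVal 2, pieceVal 3, pieceVal 4, pieceVal 5].getD j 0 = pieceVal j := by
        intro j hj
        interval_cases j <;> rfl
      rw [hget l hl, hget k hk, hv, Nat.beq_refl] at h3
      exact Bool.false_ne_true h3.symm
    · exact absurd h3 (by simp)
  rw [el', ek, hlk]

theorem pcA_bit (x i : ℕ) (hi : i < 3) : Nat.testBit (keyA x) (i + 1) = Nat.testBit (pcA x) i := by
  rw [pcA, show (8 : ℕ) = 2 ^ 3 from rfl, Nat.testBit_mod_two_pow, Nat.testBit_shiftRight, Nat.add_comm]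
  simp [hi]

theorem testBit_modA (n k i : ℕ) :
    Nat.testBit (n % modA k) i = (decide (i < if k = 0 then 1 else k + 4) && Nat.testBit n i) := by
  rw [modA]
  by_cases hk : k = 0
  · subst hk
    rw [show Nat.beq 0 0 = true from rfl, cond_true, if_pos rfl, show (2 : ℕ) = 2 ^ 1 from rfl,
      Nat.testBit_mod_two_pow]
  · rw [show Nat.beq k 0 = false by simpa [Nat.beq_eq, ← Bool.not_eq_true] using hk, cond_false, if_neg hk,
      Nat.testBit_mod_two_pow]

theorem key_mod {k : ℕ} (hk : k ≤ autSeq.length) {σ : Equiv.Perm (Fin 4060)} (hσ : σ ∈ fixA k)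
    (x : Fin 4060) : keyA (σ x).val % modA k = keyA x.val % modA k := by
  refine Nat.eq_of_testBit_eq fun i => ?_
  rw [testBit_modA, testBit_modA]
  by_cases hi : i < if k = 0 then 1 else k + 4
  · simp only [hi, decide_true, Bool.true_and]
    rcases Nat.eq_zero_or_pos i with rfl | hi0
    · rw [Bool.eq_iff_iff, key_bit_zero, key_bit_zero]
      conv_lhs => rw [← hσ.1.1]
      exact hσ.1.2 0 x
    have hk0 : k ≠ 0 := by
      rintro rfl
      simp at hi
      omega
    rw [if_neg hk0] at hi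
    by_cases hi4 : i < 4
    · obtain ⟨j, rfl⟩ : ∃ j, i = j + 1 := ⟨i - 1, by omega⟩
      rw [pcA_bit _ j (by omega), pcA_bit _ j (by omega), pcA_aut hσ.1 (hσ.2 dR ?_) x]
      have h0 : 0 < autSeq.length := by omega
      have := mem_prevA (j := 0) (k := k) (by omega) h0
      rwa [seq_zero] at this
    · obtain ⟨j, rfl⟩ : ∃ j, i = j + 4 := ⟨i - 4, by omega⟩
      have hj : j < autSeq.length := by omega
      rw [Bool.eq_iff_iff, key_bit_succ _ hj (seq_lt hj), key_bit_succ _ hj (seq_lt hj)]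
      conv_lhs => rw [← hσ.2 ⟨_, seq_lt hj⟩ (mem_prevA (by omega) hj)]
      exact hσ.1.2 _ x
  · simp [hi]

theorem countP_range (p : ℕ → Bool) (n : ℕ) :
    ((List.range n).countP p) = ((Finset.range n).filter fun x => p x = true).card := by
  rw [List.countP_eq_length_filter, ← List.toFinset_card_of_nodup ((List.nodup_range).filter _),
    List.toFinset_filter, List.toFinset_range]

theorem fixA_step {k : ℕ} (hk : k < autSeq.length) :
    Nat.card (fixA k) ≤ (autSeq.getD k (0, 0)).2 * Nat.card (fixA (k + 1)) := by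
  classical
  set v : Fin 4060 := ⟨_, seq_lt hk⟩ with hv
  have hs := List.all_eq_true.mp stepA_ok k (List.mem_range.mpr hk)
  simp only [stepA, Bool.and_eq_true, Nat.beq_eq, Bool.not_eq_true'] at hs
  obtain ⟨⟨-, hcnt⟩, hnew⟩ := hs
  have horb : Nat.card (MulAction.orbit (fixA k) v) ≤ (autSeq.getD k (0, 0)).2 := by
    rw [← hcnt, countP_range, ← Nat.card_eq_finsetCard]
    refine Nat.card_le_card_of_injective (fun w => ⟨w.1.val, ?_⟩) (fun a b h => ?_)
    · obtain ⟨⟨σ, hσ⟩, hw⟩ : ∃ g : fixA k, g • v = w.1 := MulAction.mem_orbit_iff.mp w.2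
      rw [← hw, show ((⟨σ, hσ⟩ : fixA k) • v) = σ v from rfl]
      refine Finset.mem_filter.mpr ⟨Finset.mem_range.mpr (σ v).isLt, ?_⟩
      rw [candA, Bool.and_eq_true, Nat.beq_eq, Bool.not_eq_true']
      refine ⟨key_mod (le_of_lt hk) hσ v, ?_⟩
      rw [← Bool.not_eq_true, List.any_eq_true]
      rintro ⟨c, hc, he⟩
      have he' : (σ v).val = c := Nat.beq_eq.mp he
      have h1 : σ (σ v) = σ v := hσ.2 _ (he' ▸ hc)
      have h2 : (σ v).val = v.val := by rw [σ.injective h1]
      rw [← Bool.not_eq_true, List.any_eq_true] at hnew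
      exact hnew ⟨c, hc, Nat.beq_eq.mpr (h2.symm.trans he')⟩
    · exact Subtype.ext (Fin.ext (Subtype.mk.injEq _ _ _ _ ▸ h))
  have hstab : Nat.card (MulAction.stabilizer (fixA k) v) ≤ Nat.card (fixA (k + 1)) := by
    refine Nat.card_le_card_of_injective (fun g => (⟨g.1.1, g.1.2.1, ?_⟩ : fixA (k + 1))) (fun a b h => ?_)
    · intro c hc
      rw [prevA, List.take_succ_eq_append_getElem hk, List.map_append, List.map_singleton,
        ← List.cons_append, List.mem_append, List.mem_singleton] at hc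
      rcases hc with hc | hc
      · exact g.1.2.2 c hc
      · rw [show c = v from Fin.ext (hc.trans (by rw [hv]; simp [List.getElem?_eq_getElem hk]))]
        exact g.2
    · exact Subtype.ext (Subtype.ext (congrArg (fun z : fixA (k + 1) => z.1) h :))
  calc Nat.card (fixA k) = Nat.card (MulAction.orbit (fixA k) v) * Nat.card (MulAction.stabilizer (fixA k) v) := by
        rw [← Nat.card_prod]
        exact (Nat.card_congr (MulAction.orbitProdStabilizerEquivGroup (fixA k) v)).symm
    _ ≤ _ := Nat.mul_le_mul horb hstab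

theorem key_lt : allRange 0 4060 (fun y => Nat.blt (keyA y) (modA autSeq.length)) = true := by decide +kernel

theorem fixA_last : fixA autSeq.length = ⊥ := by
  rw [Subgroup.eq_bot_iff_forall]
  intro σ hσ
  refine Equiv.ext fun x => ?_
  apply keyA_inj
  have h := key_mod le_rfl hσ x
  have hlt : ∀ y : Fin 4060, keyA y.val < modA autSeq.length := fun y =>
    Nat.blt_eq.mp (allRange_spec key_lt y.val (Nat.zero_le _) (by omega))
  rw [Nat.mod_eq_of_lt (hlt _), Nat.mod_eq_of_lt (hlt _)] at h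
  exact h

theorem fixA_le : ∀ j, j ≤ autSeq.length →
    Nat.card (fixA (autSeq.length - j)) ≤ ((autSeq.drop (autSeq.length - j)).map (·.2)).prod := by
  intro j
  induction j with
  | zero => intro _; simp [fixA_last]
  | succ j ih =>
    intro hj
    have hk : autSeq.length - (j + 1) < autSeq.length := by omega
    rw [List.drop_eq_getElem_cons hk, List.map_cons, List.prod_cons]
    refine (fixA_step hk).trans ?_
    rw [List.getD_eq_getElem _ _ hk, show autSeq.length - (j + 1) + 1 = autSeq.length - j by omega]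
    exact Nat.mul_le_mul le_rfl (ih (by omega))

/-- few automorphisms fix a point -/
theorem card_Aut0 : Nat.card Aut0 < 4060 * 35942400 := by
  refine lt_of_le_of_lt ?_ prodA_ok
  have h := fixA_le autSeq.length le_rfl
  rw [Nat.sub_self, List.drop_zero] at h
  refine le_trans (le_of_eq ?_) h
  suffices he : Aut0 = fixA 0 by rw [he]
  ext σ
  refine ⟨fun hσ => ⟨hσ, fun c hc => ?_⟩, fun hσ => hσ.1⟩
  rw [show c = 0 from Fin.ext (by simpa [prevA] using hc)]
  exact hσ.1

end H57.RUU
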