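import Mathlib
import Cfsg.Agent.H91.Ru.Quot
import Cfsg.Agent.H93.CosetOrbit
import Cfsg.Agent.H93.CosetIndex
import Cfsg.Agent.H57.RuUniq.DataTab

/-!
The Rudvalis group on 4060 points, evaluation of words, orbit certificates.
-/

set_option autoImplicit false
set_option maxRecDepth 100000

noncomputable section

namespace H57.RUU

open Cfsg.Spor H91.Ru
open H93.Coset (force force_eq allRange allRange_spec pathEnd pathEnd_append ev ev_append bitCount bitCount_eq)

/-- the Rudvalis group -/
abbrev S : Type := Cfsg.Spor.Ru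

/-- the class of a vector -/
def cls (i : ℕ) : ℕ := ((clsList.getD (i / 2048) 0) >>> (16 * (i % 2048))) % 65536

/-- a vector of a class -/
def rep (c : ℕ) : ℕ := (repTab >>> (16 * c)) % 65536

/-- the table of a letter -/
def tabSel (g : ℕ) : ℕ :=
  bif Nat.beq g 0 then tab0 else bif Nat.beq g 1 then tab1 else bif Nat.beq g 2 then tab2
  else bif Nat.beq g 3 then tab3 else bif Nat.beq g 4 then tab4 else bif Nat.beq g 5 then tab5
  else bif Nat.beq g 6 then tab6 else bif Nat.beq g 7 then tab7 else bif Nat.beq g 8 then tab8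
  else tab9

/-- the image of a class under a letter -/
def T (g c : ℕ) : ℕ := (tabSel g >>> (16 * c)) % 65536

/-- the root is one of four turns of a vector -/
def clsChk (i : ℕ) : Bool :=
  force (cls i) fun c => Nat.blt c 4060 && Nat.beq (cls (permT 2 i)) c &&
    force (rep c) fun r => Nat.beq r i || force (permT 2 r) fun r1 => Nat.beq r1 i ||
      force (permT 2 r1) fun r2 => Nat.beq r2 i || Nat.beq (permT 2 r2) i

theorem cls_ok : allRange 0 16240 clsChk = true := by decide +kernel

theorem rep_ok : allRange 0 4060 (fun c => Nat.blt (rep c) 16240 && Nat.beq (cls (rep c)) c) = true := by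
  decide +kernel

theorem cls_lt {i : ℕ} (h : i < 16240) : cls i < 4060 := by
  have e := allRange_spec cls_ok i (Nat.zero_le _) (by omega)
  simp only [clsChk, force_eq, Bool.and_eq_true, Nat.blt_eq] at e
  exact e.1.1

theorem cls_turn {i : ℕ} (h : i < 16240) : cls (permT 2 i) = cls i := by
  have e := allRange_spec cls_ok i (Nat.zero_le _) (by omega)
  simp only [clsChk, force_eq, Bool.and_eq_true, Nat.beq_eq] at e
  exact e.1.2

theorem cls_turns : ∀ (k : ℕ) {i : ℕ}, i < 16240 → cls (pathEnd permT (List.replicate k 2) i) = cls i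
  | 0, _, _ => rfl
  | k + 1, i, h => by
    show cls (pathEnd permT (List.replicate k 2) (permT 2 i)) = _
    rw [cls_turns k (permT_lt 2 h), cls_turn h]

theorem rep_lt {c : ℕ} (h : c < 4060) : rep c < 16240 := by
  have e := allRange_spec rep_ok c (Nat.zero_le _) (by omega)
  simp only [Bool.and_eq_true, Nat.blt_eq] at e
  exact e.1

theorem cls_rep {c : ℕ} (h : c < 4060) : cls (rep c) = c := by
  have e := allRange_spec rep_ok c (Nat.zero_le _) (by omega)
  simp only [Bool.and_eq_true, Nat.beq_eq] at e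
  exact e.2

theorem exists_turn {i : ℕ} (h : i < 16240) : ∃ k, pathEnd permT (List.replicate k 2) (rep (cls i)) = i := by
  have e := allRange_spec cls_ok i (Nat.zero_le _) (by omega)
  simp only [clsChk, force_eq, Bool.and_eq_true, Bool.or_eq_true, Nat.beq_eq] at e
  rcases e.2 with e | e | e | e
  exacts [⟨0, e⟩, ⟨1, e⟩, ⟨2, e⟩, ⟨3, e⟩]

theorem act_ex (φ : ↥fourRu) (c : Fin 4060) : ∃ d : Fin 4060, ∀ j < 16240,
    φ.1 (vec (rep c.val)) = vec j → cls j = d.val := by
  obtain ⟨j, hj, e⟩ := exists_img φ (rep_lt c.2)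
  exact ⟨⟨cls j, cls_lt hj⟩, fun j' hj' e' => by rw [vec_inj hj' hj (e'.symm.trans e)]⟩

/-- the map of a lattice automorphism on classes -/
def actF (φ : ↥fourRu) (c : Fin 4060) : Fin 4060 := (act_ex φ c).choose

theorem actF_spec (φ : ↥fourRu) {i j : ℕ} (hi : i < 16240) (hj : j < 16240)
    (h : φ.1 (vec i) = vec j) : (actF φ ⟨cls i, cls_lt hi⟩).val = cls j := by
  obtain ⟨k, hk⟩ := exists_turn hi
  have hr := rep_lt (cls_lt hi)
  obtain ⟨j₀, hj₀, e₀⟩ := exists_img φ hr
  have h0 := (act_ex φ ⟨cls i, cls_lt hi⟩).choose_spec j₀ hj₀ e₀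
  show (act_ex φ _).choose.val = _
  rw [← h0]
  have e1 : φ * sI ^ k = sI ^ k * φ :=
    Subgroup.mem_center_iff.1 (Subgroup.pow_mem _ sI_mem_center k) φ
  have e2 : φ.1 (vec i) = vec (pathEnd permT (List.replicate k 2) j₀) := by
    rw [← hk, ← sIpow_apply k hr]
    calc φ.1 ((sI ^ k).1 (vec _)) = (φ * sI ^ k).1 (vec (rep (cls i))) := rfl
      _ = (sI ^ k * φ).1 (vec (rep (cls i))) := by rw [e1]
      _ = (sI ^ k).1 (φ.1 (vec (rep (cls i)))) := rfl
      _ = _ := by rw [e₀, sIpow_apply k hj₀]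
  rw [vec_inj hj (pathEnd_lt _ hj₀) (h.symm.trans e2), cls_turns k hj₀]

theorem actF_one (c : Fin 4060) : actF 1 c = c := by
  refine Fin.ext ?_
  have h := actF_spec 1 (rep_lt c.2) (rep_lt c.2) rfl
  rwa [show (⟨cls (rep c.val), cls_lt (rep_lt c.2)⟩ : Fin 4060) = c from Fin.ext (cls_rep c.2),
    cls_rep c.2] at h

theorem actF_mul (φ ψ : ↥fourRu) (c : Fin 4060) : actF (φ * ψ) c = actF φ (actF ψ c) := by
  refine Fin.ext ?_
  obtain ⟨j, hj, e⟩ := exists_img ψ (rep_lt c.2)
  obtain ⟨l, hl, e'⟩ := exists_img φ hj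
  have hc : (⟨cls (rep c.val), cls_lt (rep_lt c.2)⟩ : Fin 4060) = c := Fin.ext (cls_rep c.2)
  have h1 := actF_spec ψ (rep_lt c.2) hj e
  have h2 := actF_spec φ hj hl e'
  have h3 := actF_spec (φ * ψ) (rep_lt c.2) hl (show φ.1 (ψ.1 _) = _ by rw [e, e'])
  rw [hc] at h1 h3
  rw [h3, show actF ψ c = ⟨cls j, cls_lt hj⟩ from Fin.ext h1, h2]

/-- the permutation of a lattice automorphism on classes -/
def actP (φ : ↥fourRu) : Equiv.Perm (Fin 4060) where
  toFun := actF φ
  invFun := actF φ⁻¹
  left_inv c := by rw [← actF_mul, inv_mul_cancel, actF_one]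
  right_inv c := by rw [← actF_mul, mul_inv_cancel, actF_one]

/-- the action of the automorphisms on classes -/
def actHom : ↥fourRu →* Equiv.Perm (Fin 4060) where
  toFun := actP
  map_one' := Equiv.ext fun c => actF_one c
  map_mul' φ ψ := Equiv.ext fun c => actF_mul φ ψ c

theorem actHom_sI : actHom sI = 1 := by
  refine Equiv.ext fun c => Fin.ext ?_
  have h := actF_spec sI (rep_lt c.2) (permT_lt 2 (rep_lt c.2)) (vec_turn (rep_lt c.2)).symm
  rw [show (⟨cls (rep c.val), cls_lt (rep_lt c.2)⟩ : Fin 4060) = c from Fin.ext (cls_rep c.2),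
    cls_turn (rep_lt c.2), cls_rep c.2] at h
  exact h

/-- the action on 4060 points -/
def π : S →* Equiv.Perm (Fin 4060) :=
  QuotientGroup.lift _ actHom (by
    rw [center_eq, Subgroup.zpowers_le, MonoidHom.mem_ker]
    exact actHom_sI)

theorem π_mk (φ : ↥fourRu) (c : Fin 4060) : π (QuotientGroup.mk φ) c = actF φ c := rfl

theorem π_genF (g : ℕ) (c : Fin 4060) :
    (π (QuotientGroup.mk (genF g)) c : ℕ) = cls (permT g (rep c.val)) := by
  rw [π_mk]
  have h := actF_spec (genF g) (rep_lt c.2) (permT_lt g (rep_lt c.2)) (genF_vec g (rep_lt c.2))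
  rwa [show (⟨cls (rep c.val), cls_lt (rep_lt c.2)⟩ : Fin 4060) = c from Fin.ext (cls_rep c.2)] at h

/-- the two generators of the group -/
def gen2 (g : ℕ) : S := QuotientGroup.mk (genF (g - 8))

/-- two generators of the point stabiliser -/
def genA (g : ℕ) : S := ev gen2 (gWord.getD g [])

/-- four generators of the point stabiliser -/
def genB (g : ℕ) : S := if g < 2 then genA g else ev genA (hWord.getD (g - 2) [])

/-- the ten letters -/
def gen (g : ℕ) : S := if g < 4 then genB g else if g < 8 then (genB (g - 4))⁻¹ else gen2 g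

/-- the element of a word, leftmost letter first -/
abbrev el (w : List ℕ) : S := ev gen w

/-- image of a point under a word -/
def tgt (w : List ℕ) (c : ℕ) : ℕ := pathEnd T w c

/-- all letters below a bound -/
def below (b : ℕ) (w : List ℕ) : Bool := w.all fun a => Nat.blt a b

theorem below_lt {b : ℕ} {w : List ℕ} (h : below b w = true) : ∀ a ∈ w, a < b := by
  intro a ha
  simpa [below, Nat.blt_eq] using List.all_eq_true.mp h a ha

theorem below_mono {b b' : ℕ} (hb : b ≤ b') {w : List ℕ} (h : below b w = true) : below b' w = true := by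
  rw [below, List.all_eq_true]
  intro a ha
  simpa [Nat.blt_eq] using lt_of_lt_of_le (below_lt h a ha) hb

theorem below_append {b : ℕ} {u v : List ℕ} :
    below b (u ++ v) = true ↔ below b u = true ∧ below b v = true := by
  simp [below, List.all_append]

theorem π_path {γ : ℕ → S} {Tb : ℕ → ℕ → ℕ} : ∀ (w : List ℕ),
    (∀ g ∈ w, ∀ c : Fin 4060, (π (γ g) c : ℕ) = Tb g c) →
      ∀ c : Fin 4060, (π (ev γ w) c : ℕ) = pathEnd Tb w c
  | [], _, c => by simp [ev, pathEnd]
  | g :: w, h, c => by
    rw [ev, map_mul, Equiv.Perm.mul_apply, π_path w (fun a ha => h a (List.mem_cons_of_mem _ ha)),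
      h g List.mem_cons_self c]
    rfl

/-- the tables of the generators of the group -/
def tab2OK (g : ℕ) : Bool := allRange 0 4060 fun c => Nat.beq (T (g + 8) c) (cls (permT g (rep c)))

/-- the table of a letter is the action of a word -/
def wordOK (g : ℕ) (w : List ℕ) : Bool := allRange 0 4060 fun c => Nat.beq (pathEnd T w c) (T g c)

/-- inverse tables -/
def invOK (g : ℕ) : Bool :=
  allRange 0 4060 fun c => Nat.blt (T (g + 4) c) 4060 && Nat.beq (T g (T (g + 4) c)) c

theorem tab2_ok : tab2OK 0 = true ∧ tab2OK 1 = true := by decide +kernel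

theorem wordA_ok : wordOK 0 (gWord.getD 0 []) = true ∧ wordOK 1 (gWord.getD 1 []) = true ∧
    (gWord.getD 0 []).all (fun a => Nat.beq a 8 || Nat.beq a 9) = true ∧
    (gWord.getD 1 []).all (fun a => Nat.beq a 8 || Nat.beq a 9) = true := by decide +kernel

theorem wordB_ok : wordOK 2 (hWord.getD 0 []) = true ∧ wordOK 3 (hWord.getD 1 []) = true ∧
    below 2 (hWord.getD 0 []) = true ∧ below 2 (hWord.getD 1 []) = true := by decide +kernel

theorem inv_ok : (List.range 4).all invOK = true := by decide +kernel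

theorem π_gen2 {g : ℕ} (hg : g = 8 ∨ g = 9) (c : Fin 4060) : (π (gen2 g) c : ℕ) = T g c := by
  rcases hg with rfl | rfl
  · exact (π_genF 0 c).trans (Nat.beq_eq.mp (allRange_spec tab2_ok.1 c.val (Nat.zero_le _) (by omega))).symm
  · exact (π_genF 1 c).trans (Nat.beq_eq.mp (allRange_spec tab2_ok.2 c.val (Nat.zero_le _) (by omega))).symm

theorem π_genA {g : ℕ} (hg : g < 2) (c : Fin 4060) : (π (genA g) c : ℕ) = T g c := by
  obtain ⟨h0, h1, w0, w1⟩ := wordA_ok
  have hw : ∀ w : List ℕ, w.all (fun a => Nat.beq a 8 || Nat.beq a 9) = true →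
      (π (ev gen2 w) c : ℕ) = pathEnd T w c := fun w hw => π_path w (fun a ha c => π_gen2 (by
        simpa [Nat.beq_eq] using List.all_eq_true.mp hw a ha) c) c
  rw [genA]
  rcases (show g = 0 ∨ g = 1 by omega) with rfl | rfl
  · rw [hw _ w0]; exact Nat.beq_eq.mp (allRange_spec h0 c.val (Nat.zero_le _) (by omega))
  · rw [hw _ w1]; exact Nat.beq_eq.mp (allRange_spec h1 c.val (Nat.zero_le _) (by omega))

theorem π_genB {g : ℕ} (hg : g < 4) (c : Fin 4060) : (π (genB g) c : ℕ) = T g c := by
  obtain ⟨h2, h3, w2, w3⟩ := wordB_ok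
  unfold genB
  split
  · exact π_genA (by omega) c
  · rcases (show g = 2 ∨ g = 3 by omega) with rfl | rfl
    · rw [π_path _ (fun a ha c => π_genA (below_lt w2 a ha) c)]
      exact Nat.beq_eq.mp (allRange_spec h2 c.val (Nat.zero_le _) (by omega))
    · rw [π_path _ (fun a ha c => π_genA (below_lt w3 a ha) c)]
      exact Nat.beq_eq.mp (allRange_spec h3 c.val (Nat.zero_le _) (by omega))

theorem π_gen {g : ℕ} (hg : g < 10) (c : Fin 4060) : (π (gen g) c : ℕ) = T g c := by
  unfold gen
  split
  · exact π_genB (by omega) c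
  split
  · have h := allRange_spec (List.all_eq_true.mp inv_ok (g - 4) (List.mem_range.mpr (by omega))) c.val
      (Nat.zero_le _) (by omega)
    rw [show g - 4 + 4 = g by omega, Bool.and_eq_true, Nat.blt_eq, Nat.beq_eq] at h
    have h2 : π (genB (g - 4)) ⟨T g c, h.1⟩ = c := Fin.ext ((π_genB (by omega) _).trans h.2)
    rw [map_inv]
    have h3 : (π (genB (g - 4)))⁻¹ c = ⟨T g c, h.1⟩ := by
      rw [Equiv.Perm.inv_eq_iff_eq, h2]
    rw [h3]
  · exact π_gen2 (by omega) c

theorem π_el (w : List ℕ) (hw : below 10 w = true) (c : Fin 4060) : (π (el w) c : ℕ) = tgt w c :=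
  π_path w (fun g hg c => π_gen (below_lt hw g hg) c) c

theorem el_append (u v : List ℕ) : el (u ++ v) = el v * el u := ev_append _ u v

theorem el_nil : el [] = 1 := rfl

/-- the word of the inverse -/
def invW (w : List ℕ) : List ℕ := w.reverse.map fun g => (g + 4) % 8

theorem gen_inv {g : ℕ} (hg : g < 8) : gen ((g + 4) % 8) = (gen g)⁻¹ := by
  unfold gen
  by_cases h : g < 4
  · rw [show (g + 4) % 8 = g + 4 by omega, if_neg (show ¬ g + 4 < 4 by omega), if_pos (show g + 4 < 8 by omega),
      if_pos h, Nat.add_sub_cancel]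
  · rw [show (g + 4) % 8 = g - 4 by omega, if_pos (show g - 4 < 4 by omega), if_neg h, if_pos hg, inv_inv]

theorem below_invW {w : List ℕ} : below 8 (invW w) = true := by
  simp [below, invW, List.all_eq_true, Nat.blt_eq, Nat.mod_lt]

theorem el_invW {w : List ℕ} (hw : below 8 w = true) : el (invW w) = (el w)⁻¹ := by
  induction w with
  | nil => simp [invW, el, ev]
  | cons g w ih =>
    have hg : below 8 [g] = true ∧ below 8 w = true :=
      below_append.mp (show below 8 ([g] ++ w) = true from hw)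
    have h1 : invW (g :: w) = invW w ++ [(g + 4) % 8] := by simp [invW]
    rw [h1, el_append, ih hg.2, show el [(g + 4) % 8] = gen ((g + 4) % 8) by simp [el, ev],
      gen_inv (below_lt hg.1 g (by simp)), show el (g :: w) = el w * gen g from rfl, mul_inv_rev]

theorem el_flatten_replicate (w : List ℕ) : ∀ k : ℕ, el (List.replicate k w).flatten = el w ^ k
  | 0 => by simp [el, ev]
  | k + 1 => by rw [List.replicate_succ, List.flatten_cons, el_append, el_flatten_replicate w k, pow_succ]

theorem below_flatten_replicate {b : ℕ} {w : List ℕ} (h : below b w = true) :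
    ∀ k, below b (List.replicate k w).flatten = true
  | 0 => rfl
  | k + 1 => by
    rw [List.replicate_succ, List.flatten_cons, below_append]
    exact ⟨h, below_flatten_replicate h k⟩

/-- the points reached by a list of (child, parent, word index) -/
def fill (ws : List (List ℕ)) : List (ℕ × ℕ × ℕ) → ℕ → ℕ
  | [], m => m
  | (c, p, k) :: l, m => force m fun m =>
      bif Nat.testBit m p && Nat.beq (tgt (ws.getD k []) p) c then fill ws l (m ||| 2 ^ c) else m

theorem fill_spec (ws : List (List ℕ)) (P : ℕ → Prop)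
    (hP : ∀ w, (w = [] ∨ w ∈ ws) → ∀ p, P p → P (tgt w p)) :
    ∀ (l : List (ℕ × ℕ × ℕ)) (m : ℕ), (∀ c, Nat.testBit m c = true → P c) →
      ∀ c, Nat.testBit (fill ws l m) c = true → P c := by
  intro l
  induction l with
  | nil => intro m h; exact h
  | cons a l ih =>
    obtain ⟨c0, p, k⟩ := a
    intro m h c
    rw [fill, force_eq]
    cases hb : (Nat.testBit m p && Nat.beq (tgt (ws.getD k []) p) c0)
    · exact h c
    · refine ih _ (fun c' hc' => ?_) c
      rw [Nat.testBit_lor, Bool.or_eq_true] at hc'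
      rcases hc' with hc' | hc'
      · exact h c' hc'
      · simp only [Nat.testBit_two_pow, decide_eq_true_eq] at hc'
        subst hc'
        simp only [Bool.and_eq_true, Nat.beq_eq] at hb
        rw [← hb.2]
        refine hP _ ?_ p (h p hb.1)
        rw [List.getD_eq_getElem?_getD]
        cases hk : ws[k]? with
        | none => exact Or.inl rfl
        | some w => exact Or.inr (List.mem_of_getElem? hk)

/-- points reached from `r` lie in the orbit of any subgroup holding the words -/
theorem fill_orbit {H : Subgroup S} {ws : List (List ℕ)} (hl : ws.all (below 10) = true)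
    (hH : ∀ w ∈ ws, el w ∈ H) (l : List (ℕ × ℕ × ℕ)) (r : Fin 4060) (c : Fin 4060)
    (hc : Nat.testBit (fill ws l (2 ^ r.val)) c.val = true) : ∃ x ∈ H, π x r = c := by
  suffices key : ∀ n, Nat.testBit (fill ws l (2 ^ r.val)) n = true → ∃ x ∈ H, (π x r : ℕ) = n by
    obtain ⟨x, hx, h⟩ := key c.val hc
    exact ⟨x, hx, Fin.ext h⟩
  refine fill_spec ws (fun n => ∃ x ∈ H, (π x r : ℕ) = n) ?_ l _ ?_
  · rintro w hw p ⟨x, hx, rfl⟩
    have hw7 : below 10 w = true := by
      rcases hw with rfl | hw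
      · rfl
      · exact List.all_eq_true.mp hl w hw
    have hwH : el w ∈ H := by
      rcases hw with rfl | hw
      · exact H.one_mem
      · exact hH w hw
    exact ⟨el w * x, H.mul_mem hwH hx, by rw [map_mul, Equiv.Perm.mul_apply, π_el w hw7]⟩
  · intro n hn
    rw [Nat.testBit_two_pow, decide_eq_true_eq] at hn
    exact ⟨1, H.one_mem, by rw [map_one, Equiv.Perm.one_apply, hn]⟩

/-- number of points of a mask -/
def cntBits (m : ℕ) : ℕ := bitCount m 0 4060

/-- the points of a mask -/
def maskSet (m : ℕ) : Finset (Fin 4060) := Finset.univ.filter fun c => Nat.testBit m c.val = true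

theorem mem_maskSet {m : ℕ} {c : Fin 4060} : c ∈ maskSet m ↔ Nat.testBit m c.val = true := by
  simp [maskSet]

theorem card_maskSet (m : ℕ) : (maskSet m).card = cntBits m := by
  rw [cntBits, bitCount_eq, ← Finset.card_map Fin.valEmbedding]
  congr 1
  ext i
  simp only [Finset.mem_map, mem_maskSet, Fin.valEmbedding_apply, Finset.mem_filter, Finset.mem_Ico]
  exact ⟨fun ⟨c, hc, e⟩ => e ▸ ⟨⟨Nat.zero_le _, by omega⟩, hc⟩,
    fun ⟨⟨_, h2⟩, h⟩ => ⟨⟨i, by omega⟩, h, rfl⟩⟩

theorem maskSet_land (a b : ℕ) : maskSet (Nat.land a b) = maskSet a ∩ maskSet b := by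
  ext c
  rw [Finset.mem_inter, mem_maskSet, mem_maskSet, mem_maskSet]
  change Nat.testBit (a &&& b) c.val = true ↔ _
  rw [Nat.testBit_land, Bool.and_eq_true]

theorem maskSet_lor (a b : ℕ) : maskSet (Nat.lor a b) = maskSet a ∪ maskSet b := by
  ext c
  rw [Finset.mem_union, mem_maskSet, mem_maskSet, mem_maskSet]
  change Nat.testBit (a ||| b) c.val = true ↔ _
  rw [Nat.testBit_lor, Bool.or_eq_true]

theorem maskSet_zero : maskSet 0 = ∅ := by
  ext c
  simp [mem_maskSet]

/-- the orbit of `r` under `H`, as a finset -/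
def orb (H : Subgroup S) (r : Fin 4060) : Finset (Fin 4060) := by
  classical
  exact Finset.univ.filter fun c => ∃ x ∈ H, π x r = c

theorem mem_orb {H : Subgroup S} {r c : Fin 4060} : c ∈ orb H r ↔ ∃ x ∈ H, π x r = c := by
  classical
  simp [orb]

theorem orb_trans {H : Subgroup S} {r s : Fin 4060} (h : s ∈ orb H r) : orb H s = orb H r := by
  obtain ⟨x, hx, rfl⟩ := mem_orb.mp h
  ext c
  simp only [mem_orb]
  constructor
  · rintro ⟨y, hy, rfl⟩
    exact ⟨y * x, H.mul_mem hy hx, by simp⟩
  · rintro ⟨y, hy, rfl⟩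
    exact ⟨y * x⁻¹, H.mul_mem hy (H.inv_mem hx), by simp⟩

theorem maskSet_subset_orb {H : Subgroup S} {ws : List (List ℕ)} (hl : ws.all (below 10) = true)
    (hH : ∀ w ∈ ws, el w ∈ H) {l : List (ℕ × ℕ × ℕ)} {r : Fin 4060} {m : ℕ}
    (h : fill ws l (2 ^ r.val) = m) : maskSet m ⊆ orb H r := by
  intro c hc
  rw [mem_maskSet, ← h] at hc
  exact mem_orb.mpr (fill_orbit hl hH l r c hc)

theorem fill_card_le {H : Subgroup S} {ws : List (List ℕ)} (hl : ws.all (below 10) = true)
    (hH : ∀ w ∈ ws, el w ∈ H) (l : List (ℕ × ℕ × ℕ)) (r : Fin 4060) :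
    cntBits (fill ws l (2 ^ r.val)) ≤ (orb H r).card := by
  rw [← card_maskSet]
  exact Finset.card_le_card (maskSet_subset_orb hl hH rfl)

instance instFiniteS : Finite S := Nat.finite_of_card_ne_zero (by rw [card_Ru]; norm_num)

/-- the elements of `H` fixing a point -/
def fixIn (H : Subgroup S) (r : Fin 4060) : Subgroup S :=
  H ⊓ (MulAction.stabilizer (Equiv.Perm (Fin 4060)) r).comap π

theorem mem_fixIn {H : Subgroup S} {r : Fin 4060} {x : S} : x ∈ fixIn H r ↔ x ∈ H ∧ π x r = r := by
  simp [fixIn, Subgroup.mem_inf, MulAction.mem_stabilizer_iff, Equiv.Perm.smul_def]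

theorem card_orb_mul (H : Subgroup S) (r : Fin 4060) :
    (orb H r).card * Nat.card (fixIn H r) = Nat.card H := by
  letI : MulAction S (Fin 4060) := MulAction.compHom _ π
  have ho : (orb H r : Set (Fin 4060)) = MulAction.orbit H r := by
    ext c
    simp only [Finset.mem_coe, mem_orb, MulAction.mem_orbit_iff]
    exact ⟨fun ⟨x, hx, e⟩ => ⟨⟨x, hx⟩, e⟩, fun ⟨⟨x, hx⟩, e⟩ => ⟨x, hx, e⟩⟩
  have hf : Nat.card (MulAction.stabilizer H r) = Nat.card (fixIn H r) :=
    Nat.card_congr ⟨fun a => ⟨(a : H).1, mem_fixIn.mpr ⟨(a : H).2, a.2⟩⟩,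
      fun a => ⟨⟨a.1, (mem_fixIn.mp a.2).1⟩, (mem_fixIn.mp a.2).2⟩, fun _ => rfl, fun _ => rfl⟩
  rw [← Set.ncard_coe_finset, ho, ← hf, ← Nat.card_coe_set_eq, ← Nat.card_prod]
  exact Nat.card_congr (MulAction.orbitProdStabilizerEquivGroup H r)

/-- the stabiliser of the root -/
def M : Subgroup S := fixIn ⊤ 0

theorem mem_M {x : S} : x ∈ M ↔ π x 0 = 0 := by
  rw [M, mem_fixIn]
  simp

theorem all_orbit : fill [[0], [1], [2], [3], [4], [5], [6], [7], [8], [9]] treeAll (2 ^ 0) = 2 ^ 4060 - 1 := by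
  decide +kernel

theorem transitive (c : Fin 4060) : ∃ x, π x 0 = c := by
  have h : c ∈ maskSet (2 ^ 4060 - 1) :=
    mem_maskSet.mpr (by rw [Nat.testBit_two_pow_sub_one]; simp)
  obtain ⟨x, -, hx⟩ := mem_orb.mp
    (maskSet_subset_orb (H := ⊤) (r := 0) (by decide +kernel) (fun w _ => Subgroup.mem_top _) all_orbit h)
  exact ⟨x, hx⟩

theorem orb_top : orb ⊤ 0 = Finset.univ := by
  refine Finset.eq_univ_of_forall fun c => ?_
  obtain ⟨x, hx⟩ := transitive c
  exact mem_orb.mpr ⟨x, Subgroup.mem_top x, hx⟩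

theorem card_M : Nat.card M = 35942400 := by
  have h := card_orb_mul ⊤ 0
  rw [orb_top, Finset.card_univ, Fintype.card_fin, Subgroup.card_top, card_Ru] at h
  rw [M]
  omega

theorem π_injective : Function.Injective π := by
  haveI := simple
  rw [← MonoidHom.ker_eq_bot_iff]
  rcases (MonoidHom.normal_ker π).eq_bot_or_eq_top with h | h
  · exact h
  · exfalso
    obtain ⟨x, hx⟩ := transitive 1
    have : π x = 1 := by rw [← MonoidHom.mem_ker, h]; exact Subgroup.mem_top x
    rw [this, Equiv.Perm.one_apply] at hx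
    exact absurd hx (by decide)

theorem gen_fix : (List.range 8).all (fun g => Nat.beq (T g 0) 0) = true := by decide +kernel

theorem el_mem_M {w : List ℕ} (h : below 8 w = true) : el w ∈ M := by
  induction w with
  | nil => exact M.one_mem
  | cons g w ih =>
    have hg : below 8 [g] = true ∧ below 8 w = true :=
      below_append.mp (show below 8 ([g] ++ w) = true from h)
    have hgl : g < 8 := below_lt hg.1 g (by simp)
    show el w * gen g ∈ M
    refine M.mul_mem (ih hg.2) (mem_M.mpr (Fin.ext ?_))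
    rw [π_gen (show g < 10 by omega)]
    exact Nat.beq_eq.mp (List.all_eq_true.mp gen_fix g (List.mem_range.mpr hgl))

theorem root_cls : cls (spanI.getD 0 0) = 0 := by decide +kernel

theorem mk_mem_M {φ : ↥fourRu} (h : φ ∈ fix 1) : (QuotientGroup.mk φ : S) ∈ M := by
  refine mem_M.mpr (Fin.ext ?_)
  have hs := (span_spec (show 0 < 28 by norm_num)).1
  have e := actF_spec φ hs hs (h 0 (by norm_num))
  rw [show (⟨cls (spanI.getD 0 0), cls_lt hs⟩ : Fin 4060) = 0 from Fin.ext root_cls, root_cls] at e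
  rw [π_mk]
  exact e

/-- the stabiliser of a base vector is the stabiliser of its class -/
def fixHom : fix 1 →* M :=
  ((QuotientGroup.mk' (Subgroup.center ↥fourRu)).comp (fix 1).subtype).codRestrict M fun φ => mk_mem_M φ.2

theorem fixHom_injective : Function.Injective fixHom := by
  rw [injective_iff_map_eq_one]
  rintro ⟨φ, hφ⟩ h
  have h1 : φ ∈ Subgroup.center ↥fourRu := (QuotientGroup.eq_one_iff φ).1 (congrArg Subtype.val h)
  rw [center_eq] at h1
  obtain ⟨k, hk⟩ := Subgroup.mem_zpowers_iff.mp h1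
  obtain ⟨c, hc4, hc⟩ : ∃ c : ℕ, c < 4 ∧ sI ^ c = φ := by
    refine ⟨(k % 4).toNat, by omega, ?_⟩
    rw [← zpow_natCast, Int.toNat_of_nonneg (Int.emod_nonneg k (by norm_num)), ← hk,
      ← zpow_mod_orderOf sI k, sI_order]
    norm_num
  have hs := (span_spec (show 0 < 28 by norm_num)).1
  have e := hφ 0 (by norm_num)
  rw [← hc, show sv 0 = vec (spanI.getD 0 0) from rfl, sIpow_apply c hs] at e
  have e' := vec_inj (pathEnd_lt _ hs) hs e
  apply Subtype.ext
  show φ = 1
  rcases Nat.eq_zero_or_pos c with h0 | h0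
  · rw [← hc, h0, pow_zero]
  · exfalso
    have hne : ∀ c < 4, 0 < c → pathEnd permT (List.replicate c 2) (spanI.getD 0 0) ≠ spanI.getD 0 0 := by
      decide +kernel
    exact hne c hc4 h0 e'

theorem fix_equiv : Nonempty (fix 1 ≃* M) := by
  refine ⟨MulEquiv.ofBijective fixHom ⟨fixHom_injective, ?_⟩⟩
  haveI : Finite ↥fourRu := finiteFour
  exact ((Nat.bijective_iff_injective_and_card _).mpr
    ⟨fixHom_injective, by rw [card_fix_one, card_M]⟩).2

end H57.RUU
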