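import Cfsg.Agent.H57.RuUniq.Orbits
import Cfsg.Agent.H57.RuUniq.DataFive

/-!
A Sylow five subgroup of the point stabiliser, its four fixed points, and their images.
-/

set_option autoImplicit false
set_option maxRecDepth 100000

noncomputable section

namespace H57.RUU

open H93.Coset (force force_eq allRange allRange_spec ev ev_append)

/-- the words of `P` -/
def pGens : List (List ℕ) := [pA, pB]

/-- a series of `P` -/
def pPc : List (List ℕ × List ℕ × List (List ℕ)) := [(pA, [], []), (pB, [], [[0]])]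

/-- an entry of a list, evaluated step by step -/
def nth {α : Type} (d : α) (l : List α) (i : ℕ) : α :=
  List.rec (motive := fun _ => ℕ → α) (fun _ => d) (fun a _ ih i => Nat.rec (motive := fun _ => α) a (fun j _ => ih j) i) l i

theorem nth_eq {α : Type} (d : α) : ∀ (l : List α) (i : ℕ), nth d l i = l.getD i d
  | [], _ => rfl
  | _ :: _, 0 => rfl
  | _ :: l, i + 1 => nth_eq d l i

/-- a word of an element of `P` -/
def pW (a : ℕ) : List ℕ := (nth ((0, 0), []) pEls a).2

theorem pGens_ok : pGens.all (fun w => below 8 w && fourPts.all fun b => Nat.beq (tgt w b) b) = true ∧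
    fourPts.all (fun b => Nat.blt b 4060 && Nat.testBit maskTwo b) = true ∧
    allRange 1756 2304 (fun y => fourPts.any (Nat.beq y) || !(Nat.beq (tgt pA y) y) || !(Nat.beq (tgt pB y) y)) = true ∧
    pEls.all (fun q => eqW q.2 ((List.replicate q.1.1 pA).flatten ++ (List.replicate q.1.2 pB).flatten)) = true ∧
    (List.range 5).all (fun i => !(eqW pB (List.replicate i pA).flatten)) = true ∧
    eqW (List.replicate 5 pA).flatten [] = true ∧ eqW (List.replicate 5 pB).flatten [] = true ∧
    !(eqW pA []) = true := by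
  decide +kernel

theorem isPGroup_pGens : IsPGroup 5 (gensSub pGens) := by
  haveI : Fact (Nat.Prime 5) := ⟨by norm_num⟩
  have h := pc_isPGroup' (p := 5) (ls := pPc) (by decide +kernel)
  rwa [show pPc.map (·.1) = pGens from rfl] at h

theorem pGen_below {w : List ℕ} (hw : w ∈ pGens) : below 8 w = true := by
  have h := List.all_eq_true.mp pGens_ok.1 w hw
  rw [Bool.and_eq_true] at h
  exact h.1

theorem P_le : gensSub pGens ≤ M := gensSub_le fun _ hw => el_mem_M (pGen_below hw)

theorem pW_spec (a : ℕ) : below 8 (pW a) = true ∧ el (pW a) ∈ gensSub pGens := by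
  rw [pW, nth_eq, List.getD_eq_getElem?_getD]
  cases ha : pEls[a]? with
  | none => exact ⟨rfl, Subgroup.one_mem _⟩
  | some q =>
    have h := List.all_eq_true.mp pGens_ok.2.2.2.1 q (List.mem_of_getElem? ha)
    refine ⟨(eqW_below h).1, ?_⟩
    show el q.2 ∈ _
    rw [eqW_el h, el_append, el_flatten_replicate, el_flatten_replicate]
    exact Subgroup.mul_mem _ (Subgroup.pow_mem _ (el_mem_gensSub (by decide)) _)
      (Subgroup.pow_mem _ (el_mem_gensSub (by decide)) _)

/-- unequal words of the stabiliser -/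
theorem el_ne {u v : List ℕ} (hu : below 8 u = true) (hv : below 8 v = true) (h : eqW u v = false) :
    el u ≠ el v := by
  intro he
  have : eqW u v = true := by
    rw [eqW, hu, hv, Bool.true_and, Bool.true_and, List.all_eq_true]
    intro b hb
    rw [Nat.beq_eq, ← show ((⟨b, base_lt b hb⟩ : Fin 4060) : ℕ) = b from rfl,
      ← π_el u (below_mono (by norm_num) hu), ← π_el v (below_mono (by norm_num) hv), he]
  rw [h] at this
  exact Bool.false_ne_true this

theorem gen_pow_five {w : List ℕ} (hw : w ∈ pGens) : el w ^ 5 = 1 := by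
  rw [← el_flatten_replicate]
  simp only [pGens, List.mem_cons, List.not_mem_nil, or_false] at hw
  rcases hw with rfl | rfl
  · rw [eqW_el pGens_ok.2.2.2.2.2.1, el_nil]
  · rw [eqW_el pGens_ok.2.2.2.2.2.2.1, el_nil]

theorem card_P_dvd : 25 ∣ Nat.card (gensSub pGens) := by
  haveI : Fact (Nat.Prime 5) := ⟨by norm_num⟩
  obtain ⟨k, hk⟩ := IsPGroup.iff_card.mp isPGroup_pGens
  obtain ⟨-, -, -, -, hb, -, -, ha⟩ := pGens_ok
  have hA : pA ∈ pGens := List.mem_cons_self
  have hB : pB ∈ pGens := by simp [pGens]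
  have hoA : orderOf (el pA) = 5 := by
    refine orderOf_eq_prime (gen_pow_five hA) ?_
    rw [← el_nil]
    exact el_ne (pGen_below hA) rfl (by simpa using ha)
  rw [hk]
  by_cases h2 : 2 ≤ k
  · exact (show 25 = 5 ^ 2 by norm_num) ▸ pow_dvd_pow 5 h2
  · exfalso
    have heq : Subgroup.zpowers (el pA) = gensSub pGens := by
      refine Subgroup.eq_of_le_of_card_ge (Subgroup.zpowers_le.mpr (el_mem_gensSub hA)) ?_
      rw [hk, Nat.card_zpowers, hoA]
      exact (Nat.pow_le_pow_right (by norm_num) (show k ≤ 1 by omega)).trans_eq (pow_one 5)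
    have hmem : el pB ∈ Subgroup.zpowers (el pA) := heq ▸ el_mem_gensSub hB
    obtain ⟨i, hi, hie⟩ : ∃ i < 5, el pA ^ i = el pB := by
      have := (isOfFinOrder_of_finite (el pA)).mem_powers_iff_mem_zpowers.mpr hmem
      obtain ⟨i, hi⟩ := this
      exact ⟨i % 5, Nat.mod_lt _ (by norm_num), by rw [← hoA, pow_mod_orderOf]; exact hi⟩
    have h := List.all_eq_true.mp hb i (List.mem_range.mpr hi)
    refine el_ne (pGen_below hB) (below_flatten_replicate (pGen_below hA) i) (by simpa using h) ?_
    rw [el_flatten_replicate, hie]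

/-- the four fixed points -/
def Fset : Finset (Fin 4060) := Finset.univ.filter fun c => c.val ∈ fourPts

theorem mem_Fset {c : Fin 4060} : c ∈ Fset ↔ c.val ∈ fourPts := by simp [Fset]

attribute [irreducible] Fset

theorem four_lt {b : ℕ} (hb : b ∈ fourPts) : b < 4060 := by
  have h := List.all_eq_true.mp pGens_ok.2.1 b hb
  rw [Bool.and_eq_true, Nat.blt_eq] at h
  exact h.1

theorem four_two {c : Fin 4060} (hc : c ∈ Fset) : c ∈ DTwo := by
  have h := List.all_eq_true.mp pGens_ok.2.1 _ (mem_Fset.mp hc)
  rw [Bool.and_eq_true] at h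
  exact mem_maskSet.mpr h.2

theorem P_fix {q : S} (hq : q ∈ gensSub pGens) {c : Fin 4060} (hc : c ∈ Fset) : π q c = c := by
  have hle : gensSub pGens ≤ fixIn ⊤ c := gensSub_le fun w hw => by
    have h := List.all_eq_true.mp pGens_ok.1 w hw
    rw [Bool.and_eq_true] at h
    refine mem_fixIn.mpr ⟨Subgroup.mem_top _, Fin.ext ?_⟩
    rw [π_el w (below_mono (by norm_num) h.1)]
    exact Nat.beq_eq.mp (List.all_eq_true.mp h.2 _ (mem_Fset.mp hc))
  exact (mem_fixIn.mp (hle hq)).2

theorem fix_in_four {c : Fin 4060} (hc : c ∈ DTwo) (ha : π (el pA) c = c) (hb : π (el pB) c = c) :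
    c ∈ Fset := by
  have hge : 1756 ≤ c.val := by
    by_contra hcon
    have h := mem_maskSet.mp hc
    have hmod : maskTwo = 2 ^ 1756 * (2 ^ 2304 - 1) := by decide +kernel
    rw [hmod, Nat.testBit_two_pow_mul] at h
    simp [show ¬ 1756 ≤ c.val from hcon] at h
  have h := allRange_spec pGens_ok.2.2.1 c.val hge (by omega)
  simp only [Bool.or_eq_true, List.any_eq_true, Bool.not_eq_true'] at h
  rcases h with (⟨z, hz, he⟩ | h) | h
  · rw [mem_Fset, Nat.beq_eq.mp he]; exact hz
  · rw [← π_el pA (below_mono (by norm_num) (pGen_below List.mem_cons_self)), ha] at h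
    simp at h
  · rw [← π_el pB (below_mono (by norm_num) (pGen_below (by simp [pGens]))), hb] at h
    simp at h

/-- an invariant of the set of the images of the four points -/
def key (w : List ℕ) : ℕ := (fourPts.map fun b => tgt w b * tgt w b * tgt w b).sum

theorem fourPts_nodup : fourPts.Nodup := by decide +kernel

theorem key_image {w : List ℕ} (hw : below 10 w = true) :
    key w = (Fset.image (π (el w))).sum fun c => c.val * c.val * c.val := by
  have key' : ∀ l : List ℕ, l.Nodup → (∀ b ∈ l, b < 4060) →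
      (l.map fun b => tgt w b * tgt w b * tgt w b).sum =
        (Finset.univ.filter fun d : Fin 4060 => d.val ∈ l).sum
          fun d => (π (el w) d).val * (π (el w) d).val * (π (el w) d).val := by
    intro l
    induction l with
    | nil => simp
    | cons b l ih =>
      intro hnd hl
      rw [List.nodup_cons] at hnd
      have hins : (Finset.univ.filter fun d : Fin 4060 => d.val ∈ b :: l) =
          insert ⟨b, hl b List.mem_cons_self⟩ (Finset.univ.filter fun d : Fin 4060 => d.val ∈ l) := by
        ext d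
        simp [Fin.ext_iff]
      rw [List.map_cons, List.sum_cons, hins, Finset.sum_insert (by simp [hnd.1]),
        ih hnd.2 fun a ha => hl a (List.mem_cons_of_mem _ ha), π_el w hw]
  rw [key, Finset.sum_image (π (el w)).injective.injOn, key' _ fourPts_nodup fun b hb => four_lt hb]
  refine Finset.sum_congr ?_ fun _ _ => rfl
  ext d
  simp [mem_Fset]

/-- the entry of a representative -/
def repT (r : ℕ) : List ℕ × List ℕ := nth ([], []) (nth [] repsBlocks (r / 50)) (r % 50)

/-- the word of a representative -/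
def repW (r : ℕ) : List ℕ := (repT r).1

/-- the word of a coded image -/
def fW (code : ℕ) : List ℕ :=
  repW (code / 32) ++ pW (nth 0 (repT (code / 32)).2 (code % 32))

/-- strictly increasing keys -/
def incrF : ℕ → List ℕ → Bool
  | _, [] => true
  | prev, c :: l => Nat.blt (c / 32) 600 && below 8 (fW c) &&
      force (key (fW c) + 1) fun k => Nat.blt prev k && incrF k l

theorem incrF_spec : ∀ (l : List ℕ) (prev : ℕ), incrF prev l = true →
    (∀ c ∈ l, c / 32 < 600 ∧ below 8 (fW c) = true ∧ prev < key (fW c) + 1) ∧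
      (l.map fun c => key (fW c)).Nodup := by
  intro l
  induction l with
  | nil => simp
  | cons c l ih =>
    intro prev h
    simp only [incrF, force_eq, Bool.and_eq_true, Nat.blt_eq] at h
    obtain ⟨⟨h1, h2⟩, h3, h4⟩ := h
    obtain ⟨i1, i2⟩ := ih _ h4
    refine ⟨fun d hd => ?_, ?_⟩
    · rcases List.mem_cons.mp hd with rfl | hd
      · exact ⟨h1, h2, h3⟩
      · obtain ⟨j1, j2, j3⟩ := i1 d hd
        exact ⟨j1, j2, lt_trans h3 j3⟩
    · rw [List.map_cons, List.nodup_cons]
      refine ⟨fun hm => ?_, i2⟩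
      obtain ⟨d, hd, he⟩ := List.mem_map.mp hm
      have := (i1 d hd).2.2
      omega

theorem five_ok : incrF 0 fiveOrder = true ∧ fiveOrder.length = 14976 := by decide +kernel

/-- the setwise stabiliser of the four points -/
def StF : Subgroup S where
  carrier := {x | x ∈ M ∧ Fset.image (π x) = Fset}
  one_mem' := ⟨M.one_mem, by simp⟩
  mul_mem' := fun {a b} ⟨ha, ha'⟩ ⟨hb, hb'⟩ => ⟨M.mul_mem ha hb, by
    rw [show (π (a * b) : Fin 4060 → Fin 4060) = π a ∘ π b by rw [map_mul]; rfl, ← Finset.image_image, hb', ha']⟩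
  inv_mem' := fun {a} ⟨ha, ha'⟩ => ⟨M.inv_mem ha, by
    conv_lhs => rw [← ha']
    rw [Finset.image_image, show (π a⁻¹ : Fin 4060 → Fin 4060) ∘ π a = id by
      funext z; simp, Finset.image_id]⟩

theorem mem_StF {x : S} : x ∈ StF ↔ x ∈ M ∧ Fset.image (π x) = Fset := Iff.rfl

/-- the words of the normaliser of `P` -/
def nWords : List (List ℕ) := nCert.map (·.1)

theorem n_ok : chOK nFChain [] = true ∧ chProd nFChain = 2400 ∧
    nFChain.all (fun L => L.2.1.all fun w => nWords.any fun v => eqW w v) = true ∧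
    nCert.all (fun e => below 8 e.1 && fourPts.all (fun b => fourPts.any (Nat.beq (tgt e.1 b))) &&
      eqW (invW e.1 ++ pA ++ e.1) (comp pGens (e.2.getD 0 [])) &&
      eqW (invW e.1 ++ pB ++ e.1) (comp pGens (e.2.getD 1 []))) = true := by
  decide +kernel

theorem nGens_le : gensSub nWords ≤ StF ⊓ Subgroup.normalizer (gensSub pGens : Set S) := by
  refine gensSub_le fun w hw => ?_
  obtain ⟨e, he, rfl⟩ := List.mem_map.mp hw
  have h := List.all_eq_true.mp n_ok.2.2.2 e he
  simp only [Bool.and_eq_true] at h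
  obtain ⟨⟨⟨h1, h2⟩, h3⟩, h4⟩ := h
  refine Subgroup.mem_inf.mpr ⟨⟨el_mem_M h1, ?_⟩, ?_⟩
  · refine Finset.eq_of_subset_of_card_le (fun c hc => ?_)
      (by rw [Finset.card_image_of_injective _ (π (el e.1)).injective])
    obtain ⟨d, hd, rfl⟩ := Finset.mem_image.mp hc
    obtain ⟨z, hz, he'⟩ := List.any_eq_true.mp (List.all_eq_true.mp h2 _ (mem_Fset.mp hd))
    rw [mem_Fset, π_el _ (below_mono (by norm_num) h1), Nat.beq_eq.mp he']
    exact hz
  · have key' : ∀ g : List ℕ, ∀ idx, eqW (invW e.1 ++ g ++ e.1) (comp pGens idx) = true →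
        el e.1 * el g * (el e.1)⁻¹ ∈ gensSub pGens := by
      intro g idx hg
      have h5 := eqW_el hg
      rw [el_append, el_append, el_invW h1] at h5
      rw [mul_assoc, h5]
      exact el_comp_mem (fun v hv => el_mem_gensSub hv) idx
    have hle : (gensSub pGens).map (MulAut.conj (el e.1)).toMonoidHom ≤ gensSub pGens := by
      rw [Subgroup.map_le_iff_le_comap]
      refine gensSub_le fun g hg => ?_
      show el e.1 * el g * (el e.1)⁻¹ ∈ gensSub pGens
      simp only [pGens, List.mem_cons, List.not_mem_nil, or_false] at hg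
      rcases hg with rfl | rfl
      · exact key' _ _ h3
      · exact key' _ _ h4
    have hmap : (gensSub pGens).map (MulAut.conj (el e.1)).toMonoidHom = gensSub pGens :=
      Subgroup.eq_of_le_of_card_ge hle (le_of_eq (Nat.card_congr
        ((gensSub pGens).equivMapOfInjective _ (MulAut.conj (el e.1)).injective).toEquiv))
    rw [Subgroup.mem_normalizer_iff]
    intro g
    refine ⟨fun hg => hle ⟨g, hg, rfl⟩, fun hg => ?_⟩
    rw [← hmap] at hg
    obtain ⟨q, hq, e'⟩ := hg
    rwa [show q = g from (MulAut.conj (el e.1)).injective e'] at hq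

theorem card_nGens : 2400 ≤ Nat.card (gensSub nWords) := by
  obtain ⟨h1, h2, h3, -⟩ := n_ok
  refine chain_card h1 h2 fun L hL w hw => ?_
  have h := List.all_eq_true.mp (List.all_eq_true.mp h3 L hL) w hw
  rw [List.any_eq_true] at h
  obtain ⟨v, hv, e⟩ := h
  rw [eqW_el e]
  exact el_mem_gensSub hv

set_option maxHeartbeats 1000000 in
/-- every image of the four points is listed, and its stabiliser normalises `P` -/
theorem cover {x : S} (hx : x ∈ M) : ∃ r a, r < 600 ∧ below 8 (repW r) = true ∧
    ∃ n : S, n ∈ M ∧ (∀ q ∈ gensSub pGens, n⁻¹ * q * n ∈ gensSub pGens) ∧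
      x = el (pW a) * el (repW r) * n := by
  classical
  haveI : Fintype S := Fintype.ofFinite S
  let CL : Finset (Finset (Fin 4060)) :=
    (Finset.univ.filter fun y : S => y ∈ M).image fun y => Fset.image (π y)
  let LS : Finset (Finset (Fin 4060)) := (fiveOrder.map fun c => Fset.image (π (el (fW c)))).toFinset
  obtain ⟨hc, hnd⟩ := incrF_spec _ _ five_ok.1
  have hLS : LS.card = 14976 := by
    rw [List.toFinset_card_of_nodup, List.length_map, five_ok.2]
    refine List.Nodup.map_on ?_ (List.Nodup.of_map _ hnd)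
    intro c h1 d h2 e
    refine List.inj_on_of_nodup_map hnd h1 h2 ?_
    show key (fW c) = key (fW d)
    rw [key_image (below_mono (by norm_num) (hc c h1).2.1), key_image (below_mono (by norm_num) (hc d h2).2.1), e]
  have hsub : LS ⊆ CL := by
    intro y hy
    obtain ⟨c, hcm, rfl⟩ := List.mem_map.mp (List.mem_toFinset.mp hy)
    refine Finset.mem_image.mpr ⟨el (fW c), Finset.mem_filter.mpr ⟨Finset.mem_univ _,
      el_mem_M (hc c hcm).2.1⟩, rfl⟩
  have hmul : CL.card * Nat.card StF ≤ 35942400 := by
    have hinj : ∀ y ∈ CL, ∃ m : M, y = Fset.image (π (m : S)) := fun y hy => by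
      obtain ⟨m, hm, rfl⟩ := Finset.mem_image.mp hy
      exact ⟨⟨m, (Finset.mem_filter.mp hm).2⟩, rfl⟩
    choose m hm using hinj
    have hle : Nat.card CL ≤ (StF.subgroupOf M).index := by
      rw [Subgroup.index]
      refine Nat.card_le_card_of_injective (fun y => (QuotientGroup.mk (m y.1 y.2) : M ⧸ StF.subgroupOf M)) ?_
      intro y y' h
      rw [QuotientGroup.eq, Subgroup.mem_subgroupOf, mem_StF] at h
      apply Subtype.ext
      rw [hm y.1 y.2, hm y'.1 y'.2]
      conv_lhs => rw [← h.2]
      rw [Finset.image_image]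
      refine Finset.image_congr fun z _ => ?_
      simp
    rw [Nat.card_eq_fintype_card, Fintype.card_coe] at hle
    have h1 : Nat.card (StF.subgroupOf M) * (StF.subgroupOf M).index = 35942400 :=
      (Subgroup.card_mul_index _).trans card_M
    rw [Nat.card_congr (Subgroup.subgroupOfEquivOfLe (show StF ≤ M from fun a ha => ha.1)).toEquiv] at h1
    rw [← h1, Nat.mul_comm]
    exact Nat.mul_le_mul le_rfl hle
  have hN : gensSub nWords ≤ StF := nGens_le.trans inf_le_left
  have hcl : 14976 ≤ CL.card := hLS ▸ Finset.card_le_card hsub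
  have hst : Nat.card StF ≤ 2400 := by
    by_contra hlt
    have := le_trans (Nat.mul_le_mul hcl (show 2401 ≤ Nat.card StF by omega)) hmul
    omega
  have hNeq : gensSub nWords = StF :=
    Subgroup.eq_of_le_of_card_ge hN (le_trans hst card_nGens)
  have hCLle : CL.card ≤ LS.card := by
    rw [hLS]
    have h2 : 2400 ≤ Nat.card StF := hNeq ▸ card_nGens
    by_contra hlt
    have := le_trans (Nat.mul_le_mul (show 14977 ≤ CL.card by omega) h2) hmul
    omega
  have heq : LS = CL := Finset.eq_of_subset_of_card_le hsub hCLle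
  have hxmem : Fset.image (π x) ∈ LS :=
    heq ▸ Finset.mem_image.mpr ⟨x, Finset.mem_filter.mpr ⟨Finset.mem_univ _, hx⟩, rfl⟩
  obtain ⟨c, hcm, e⟩ := List.mem_map.mp (List.mem_toFinset.mp hxmem)
  have hb := (hc c hcm).2.1
  set a := nth 0 (repT (c / 32)).2 (c % 32) with ha
  have hbr : below 8 (repW (c / 32)) = true := (below_append.mp hb).1
  refine ⟨c / 32, a, (hc c hcm).1, hbr, (el (fW c))⁻¹ * x, M.mul_mem (M.inv_mem (el_mem_M hb)) hx,
    fun q hq => ?_, ?_⟩
  · have hn : (el (fW c))⁻¹ * x ∈ StF := ⟨M.mul_mem (M.inv_mem (el_mem_M hb)) hx, by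
      rw [show (π ((el (fW c))⁻¹ * x) : Fin 4060 → Fin 4060) = π (el (fW c))⁻¹ ∘ π x by
        rw [map_mul]; rfl, ← Finset.image_image, ← e, Finset.image_image]
      conv_rhs => rw [← Finset.image_id (s := Fset)]
      refine Finset.image_congr fun z _ => ?_
      simp⟩
    rw [← hNeq] at hn
    have hnn := (nGens_le hn).2
    have := (Subgroup.mem_normalizer_iff.mp (Subgroup.inv_mem _ hnn) q).mp hq
    rwa [inv_inv] at this
  · rw [fW, el_append, ← ha]
    group

end H57.RUU
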