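import Mathlib

/-!
Permutation groups of degree five and subgroups of index at most four.
-/

set_option autoImplicit false

namespace H57.RUU

/-- in a subgroup of index at most four every fifth root of one is contained -/
theorem mem_of_pow_five {G : Type*} [Group G] [Finite G] {K : Subgroup G}
    (hK : Nat.card G ≤ 4 * Nat.card K) {x : G} (hx : x ^ 5 = 1) : x ∈ K := by
  haveI : Fintype (G ⧸ K) := Fintype.ofFinite _
  classical
  have hidx : Fintype.card (G ⧸ K) ≤ 4 := by
    have h := Subgroup.card_eq_card_quotient_mul_card_subgroup K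
    rw [h] at hK
    rw [← Nat.card_eq_fintype_card]
    exact Nat.le_of_mul_le_mul_right hK Nat.card_pos
  have h1 : MulAction.toPermHom G (G ⧸ K) x = 1 := by
    rw [← orderOf_eq_one_iff]
    have hd5 : orderOf (MulAction.toPermHom G (G ⧸ K) x) ∣ 5 :=
      orderOf_dvd_of_pow_eq_one (by rw [← map_pow, hx, map_one])
    have hdf := orderOf_dvd_natCard (MulAction.toPermHom G (G ⧸ K) x)
    rw [Nat.card_eq_fintype_card (α := Equiv.Perm (G ⧸ K)), Fintype.card_perm] at hdf
    have h24 : (Fintype.card (G ⧸ K)).factorial ∣ 24 := by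
      rw [show (24 : ℕ) = Nat.factorial 4 from rfl]
      exact Nat.factorial_dvd_factorial hidx
    have hg : orderOf (MulAction.toPermHom G (G ⧸ K) x) ∣ Nat.gcd 5 24 :=
      Nat.dvd_gcd hd5 (hdf.trans h24)
    exact Nat.dvd_one.mp hg
  have h2 := congrArg (fun σ : Equiv.Perm (G ⧸ K) => σ ((1 : G) : G ⧸ K)) h1
  simp only [MulAction.toPermHom_apply, MulAction.toPerm_apply, Equiv.Perm.one_apply] at h2
  rw [MulAction.Quotient.smul_coe, smul_eq_mul, mul_one, QuotientGroup.eq, mul_one] at h2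
  simpa using K.inv_mem h2

/-- point stabilisers in solvable groups of degree five are abelian -/
theorem stab_comm_five {α : Type*} [Fintype α] [DecidableEq α] (hα : Fintype.card α = 5)
    (I : Subgroup (Equiv.Perm α)) (htr : ∀ x y : α, ∃ g ∈ I, g x = y) (hI : Nat.card I ∣ 20480)
    {o : α} {u v : Equiv.Perm α} (hu : u ∈ I) (hv : v ∈ I) (huo : u o = o) (hvo : v o = o) :
    u * v = v * u := by
  haveI : Fact (Nat.Prime 5) := ⟨by norm_num⟩
  have h40 : Nat.card I ∣ 40 := by
    have h := Subgroup.card_subgroup_dvd_card I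
    rw [Nat.card_eq_fintype_card (α := Equiv.Perm α), Fintype.card_perm, hα] at h
    exact Nat.dvd_gcd h hI
  have h5 : 5 ∣ Nat.card I := by
    letI : MulAction I α := MulAction.compHom α I.subtype
    have h := Nat.card_congr (MulAction.orbitProdStabilizerEquivGroup I o)
    have ho : MulAction.orbit I o = Set.univ := Set.eq_univ_of_forall fun y => by
      obtain ⟨g, hg, e⟩ := htr o y
      exact ⟨⟨g, hg⟩, e⟩
    rw [Nat.card_prod, ho, Nat.card_congr (Equiv.Set.univ α), Nat.card_eq_fintype_card (α := α), hα] at h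
    exact ⟨_, h.symm⟩
  obtain ⟨P⟩ : Nonempty (Sylow 5 I) := inferInstance
  have hP : Nat.card P = 5 := by
    rw [P.card_eq_multiplicity]
    obtain ⟨k, hk⟩ := h5
    have hk8 : k ∣ 8 := by
      rw [hk, show 40 = 5 * 8 from rfl] at h40
      exact Nat.dvd_of_mul_dvd_mul_left (by norm_num) h40
    have hk5 : ¬ 5 ∣ k := fun h => absurd (h.trans hk8) (by norm_num)
    rw [hk, Nat.factorization_mul (by norm_num) (by rintro rfl; simp at hk8), Finsupp.add_apply,
      Nat.Prime.factorization_self (by norm_num), Nat.factorization_eq_zero_of_not_dvd hk5]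
    norm_num
  have hn1 : Nat.card (Sylow 5 I) = 1 := by
    have h1 : Nat.card (Sylow 5 I) ∣ 8 := by
      refine P.card_dvd_index.trans ?_
      have h := P.toSubgroup.card_mul_index
      rw [show Nat.card P.toSubgroup = 5 from hP] at h
      rw [← h, show 40 = 5 * 8 from rfl] at h40
      exact Nat.dvd_of_mul_dvd_mul_left (by norm_num) h40
    have h2 : Nat.card (Sylow 5 I) % 5 = 1 := (card_sylow_modEq_one 5 I)
    have h3 : Nat.card (Sylow 5 I) ≤ 8 := Nat.le_of_dvd (by norm_num) h1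
    interval_cases h4 : Nat.card (Sylow 5 I) <;> omega
  haveI : Subsingleton (Sylow 5 I) := (Nat.card_eq_one_iff_unique.mp hn1).1
  have hnorm : P.toSubgroup.Normal := Sylow.normal_of_subsingleton P
  obtain ⟨σ, hσ⟩ := exists_prime_orderOf_dvd_card' (G := P) 5 (by rw [hP])
  set s : Equiv.Perm α := ((σ : I) : Equiv.Perm α) with hs
  have hso : orderOf s = 5 := by
    rw [hs, Subgroup.orderOf_coe, Subgroup.orderOf_coe, hσ]
  have hzP : ∀ g : I, g ∈ P.toSubgroup → ∃ k : ℕ, (g : Equiv.Perm α) = s ^ k := by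
    intro g hg
    have htop : Subgroup.zpowers σ = ⊤ :=
      Subgroup.eq_top_of_card_eq _ (by rw [Nat.card_zpowers, hσ, hP])
    obtain ⟨k, hk⟩ := (isOfFinOrder_of_finite σ).mem_powers_iff_mem_zpowers.mpr
      (show (⟨g, hg⟩ : P.toSubgroup) ∈ Subgroup.zpowers σ from htop ▸ Subgroup.mem_top _)
    refine ⟨k, ?_⟩
    have := congrArg (fun z : P.toSubgroup => ((z : I) : Equiv.Perm α)) hk
    simpa using this.symm
  have hcyc : s.IsCycle := Equiv.Perm.isCycle_of_prime_order' (by rw [hso]; norm_num) (by rw [hso, hα]; norm_num)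
  have hsupp : s.support = Finset.univ := by
    refine Finset.eq_univ_of_card _ ?_
    rw [← hcyc.orderOf, hso, hα]
  have hall : ∀ y : α, ∃ k : ℕ, (s ^ k) o = y := by
    intro y
    obtain ⟨k, -, hk⟩ := hcyc.exists_pow_eq (x := o) (y := y)
      (Equiv.Perm.mem_support.mp (hsupp ▸ Finset.mem_univ o))
      (Equiv.Perm.mem_support.mp (hsupp ▸ Finset.mem_univ y)) |> fun ⟨k, hk⟩ => (⟨k, trivial, hk⟩ : ∃ k : ℕ, True ∧ (s ^ k) o = y)
    exact ⟨k, hk⟩
  have hact : ∀ w : Equiv.Perm α, w ∈ I → w o = o →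
      ∃ i : ℕ, ∀ k : ℕ, w ((s ^ k) o) = (s ^ (i * k)) o := by
    intro w hw hwo
    obtain ⟨i, hi⟩ := hzP (⟨w, hw⟩ * (σ : I) * ⟨w, hw⟩⁻¹) (hnorm.conj_mem _ σ.2 ⟨w, hw⟩)
    refine ⟨i, fun k => ?_⟩
    have h : w * s * w⁻¹ = s ^ i := by simpa using hi
    have h2 : w * s ^ k * w⁻¹ = s ^ (i * k) := by rw [← conj_pow, h, ← pow_mul]
    rw [← h2, Equiv.Perm.mul_apply, Equiv.Perm.mul_apply]
    rw [show (w⁻¹ : Equiv.Perm α) o = o by rw [Equiv.Perm.inv_eq_iff_eq, hwo]]
  obtain ⟨i, hi⟩ := hact u hu huo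
  obtain ⟨j, hj⟩ := hact v hv hvo
  refine Equiv.ext fun y => ?_
  obtain ⟨k, rfl⟩ := hall y
  rw [Equiv.Perm.mul_apply, Equiv.Perm.mul_apply, hj, hi, hi, hj]
  ring_nf

end H57.RUU
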