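import Cfsg.Agent.H57.RuUniq.Fours
import Cfsg.Agent.H57.RuUniq.SmallAct

/-!
Subgroups of index 2304 of the point stabiliser are point stabilisers.
-/

set_option autoImplicit false
set_option maxRecDepth 100000

noncomputable section

namespace H57.RUU

open H93.Coset (force force_eq allRange allRange_spec ev ev_append)

/-- generators of `P` and of a conjugate -/
def qGens (r : ℕ) : List (List ℕ) :=
  [pA, pB, invW (repW r) ++ pA ++ repW r, invW (repW r) ++ pB ++ repW r]

/-- a word of stated order -/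
def ordOK (n : ℕ) (ds : List ℕ) (s : List ℕ) : Bool :=
  below 8 s && eqW (List.replicate n s).flatten [] && ds.all fun d => !(eqW (List.replicate d s).flatten [])

/-- the certificate of one representative -/
def caseOK (r : ℕ) : Bool :=
  let e := nth (0, []) (nth [] certBlocks (r / 50)) (r % 50)
  let it := fun i => nth ([], []) e.2 i
  bif Nat.beq e.1 0 then
    eqW (it 0).2 (comp (qGens r) (it 0).1) && ordOK 16 [8] (it 0).2
  else
    fourPts.any (Nat.beq e.1) &&
      fourPts.all (fun b => Nat.beq (tgt (repW r) b) e.1 || !(fourPts.any (Nat.beq (tgt (repW r) b)))) &&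
      (qGens r).all (fun w => below 8 w && Nat.beq (tgt w e.1) e.1) &&
      eqW (it 0).2 (comp (qGens r) (it 0).1) && ordOK 13 [1] (it 0).2 &&
      eqW (it 1).2 (comp (qGens r) (it 1).1) && ordOK 12 [6, 4] (it 1).2

theorem case_ok : allRange 1 599 caseOK = true := by decide +kernel

theorem rep_zero : repW 0 = [] := by decide +kernel

theorem two_ok : chOK cFChain [] = true ∧ chProd cFChain = 200 ∧
    cFChain.all (fun L => L.2.1.all fun w =>
      below 8 w && Nat.beq (tgt w 1756) 1756 && Nat.beq (tgt w 3954) 3954) = true ∧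
    fourPts.any (Nat.beq 1756) = true ∧ fourPts.any (Nat.beq 3954) = true ∧ fourPts.length = 4 ∧
    (cSOrb.any fun o => Nat.testBit o.2.2 3954 && Nat.beq (cntBits o.2.2) 78) = true := by
  decide +kernel

theorem five_elt_ok : below 8 wFive = true ∧ Nat.beq (tgt wFive 1756) 1756 = true ∧
    eqW (List.replicate 5 wFive).flatten [] = true ∧ fourPts.any (Nat.beq wFiveMoves) = true ∧
    Nat.beq (tgt wFive wFiveMoves) wFiveMoves = false := by
  decide +kernel

/-- the partner of the base point among the four -/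
def eR' : Fin 4060 := ⟨3954, by norm_num⟩

theorem eR_four : eR ∈ Fset := by
  obtain ⟨z, hz, he⟩ := List.any_eq_true.mp two_ok.2.2.2.1
  rw [mem_Fset, show (eR : Fin 4060).val = z from Nat.beq_eq.mp he]
  exact hz

theorem eR'_four : eR' ∈ Fset := by
  obtain ⟨z, hz, he⟩ := List.any_eq_true.mp two_ok.2.2.2.2.1
  rw [mem_Fset, show (eR' : Fin 4060).val = z from Nat.beq_eq.mp he]
  exact hz

theorem card_Fset_le : Fset.card ≤ 4 := by
  calc Fset.card ≤ fourPts.toFinset.card := Finset.card_le_card_of_injOn Fin.val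
        (fun y hy => List.mem_toFinset.mpr (mem_Fset.mp hy)) Fin.val_injective.injOn
    _ ≤ fourPts.length := fourPts.toFinset_card_le
    _ = 4 := two_ok.2.2.2.2.2.1

theorem card_two : Nat.card (fixIn (fixIn M eR) eR') = 200 := by
  obtain ⟨h1, h2, h3, -, -, -, horb⟩ := two_ok
  have hge : 200 ≤ Nat.card (fixIn (fixIn M eR) eR') := by
    refine chain_card h1 h2 fun L hL w hw => ?_
    have h := List.all_eq_true.mp (List.all_eq_true.mp h3 L hL) w hw
    simp only [Bool.and_eq_true, Nat.beq_eq] at h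
    refine mem_fixIn.mpr ⟨mem_fixIn.mpr ⟨el_mem_M h.1.1, Fin.ext ?_⟩, Fin.ext ?_⟩ <;>
      rw [π_el w (below_mono (by norm_num) h.1.1)]
    exacts [h.1.2, h.2]
  obtain ⟨o, ho, he⟩ := List.any_eq_true.mp horb
  rw [Bool.and_eq_true, Nat.beq_eq] at he
  have hsub := piece_of_ok (b := eR) stab_ok.2.1 stab_ok.2.2.2 ho eR' (mem_maskSet.mpr he.1)
  have h78 := Finset.card_le_card hsub
  rw [card_maskSet, he.2] at h78
  have hmul := card_orb_mul (fixIn M eR) eR'
  rw [card_fix_eR] at hmul
  have := Nat.mul_le_mul_right (Nat.card (fixIn (fixIn M eR) eR')) h78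
  omega

/-- an element of order thirteen does not permute the four points -/
theorem no_thirteen {y : S} (hy : y ∈ M) (ho : orderOf y = 13) (hF : ∀ c ∈ Fset, π y c ∈ Fset) : False := by
  have hfix : ∀ s ∈ Fset, π y s = s := by
    intro s hs
    have h := card_orb_mul (Subgroup.zpowers y) s
    rw [Nat.card_zpowers, ho] at h
    let St : Subgroup S :=
      { carrier := {u | Fset.image (π u) = Fset}
        one_mem' := by simp
        mul_mem' := fun {p q} hp hq => by
          show Fset.image (π (p * q)) = Fset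
          rw [show (π (p * q) : Fin 4060 → Fin 4060) = π p ∘ π q by rw [map_mul]; rfl, ← Finset.image_image,
            show Fset.image (π q) = Fset from hq, show Fset.image (π p) = Fset from hp]
        inv_mem' := fun {p} hp => by
          show Fset.image (π p⁻¹) = Fset
          conv_lhs => rw [← show Fset.image (π p) = Fset from hp]
          rw [Finset.image_image, show (π p⁻¹ : Fin 4060 → Fin 4060) ∘ π p = id by funext z; simp,
            Finset.image_id] }
    have hySt : y ∈ St := Finset.eq_of_subset_of_card_le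
      (fun c hc => by obtain ⟨d, hd, rfl⟩ := Finset.mem_image.mp hc; exact hF d hd)
      (by rw [Finset.card_image_of_injective _ (π y).injective])
    have hsub : orb (Subgroup.zpowers y) s ⊆ Fset := by
      intro t ht
      obtain ⟨u, hu, rfl⟩ := mem_orb.mp ht
      have hu' : u ∈ St := Subgroup.zpowers_le.mpr hySt hu
      rw [← show Fset.image (π u) = Fset from hu']
      exact Finset.mem_image_of_mem _ hs
    have hle := (Finset.card_le_card hsub).trans card_Fset_le
    rcases (Nat.dvd_prime (by norm_num : Nat.Prime 13)).mp ⟨_, h.symm⟩ with h1 | h1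
    · obtain ⟨t, ht⟩ := Finset.card_eq_one.mp h1
      have e1 : π y s ∈ orb (Subgroup.zpowers y) s := mem_orb.mpr ⟨_, Subgroup.mem_zpowers _, rfl⟩
      have e2 : s ∈ orb (Subgroup.zpowers y) s := mem_orb.mpr ⟨1, Subgroup.one_mem _, by simp⟩
      rw [ht, Finset.mem_singleton] at e1 e2
      rw [e1, e2]
    · omega
  have hm : y ∈ fixIn (fixIn M eR) eR' :=
    mem_fixIn.mpr ⟨mem_fixIn.mpr ⟨hy, hfix _ eR_four⟩, hfix _ eR'_four⟩
  have hd := orderOf_dvd_natCard (⟨y, hm⟩ : fixIn (fixIn M eR) eR')
  rw [Subgroup.orderOf_mk, ho, card_two] at hd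
  norm_num at hd

theorem commute_of_normalised {H : Type*} [Group H] {x y : H} (hy : orderOf y = 13) (hx : x ^ 5 = 1)
    (h : x * y * x⁻¹ ∈ Subgroup.zpowers y) : x * y = y * x := by
  have hfin : IsOfFinOrder y := orderOf_pos_iff.mp (by omega)
  obtain ⟨i, hi⟩ := hfin.mem_powers_iff_mem_zpowers.mpr h
  have hi' : x * y * x⁻¹ = y ^ i := hi.symm
  have hit : ∀ n : ℕ, x ^ n * y * (x ^ n)⁻¹ = y ^ (i ^ n) := by
    intro n
    induction n with
    | zero => simp
    | succ n ih =>
      calc x ^ (n + 1) * y * (x ^ (n + 1))⁻¹ = x ^ n * (x * y * x⁻¹) * (x ^ n)⁻¹ := by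
            rw [pow_succ]; group
        _ = (x ^ n * y * (x ^ n)⁻¹) ^ i := by rw [hi', conj_pow]
        _ = _ := by rw [ih, ← pow_mul, ← pow_succ]
  have h5 := hit 5
  rw [hx] at h5
  simp only [one_mul, inv_one, mul_one] at h5
  have hmod : i ^ 5 % 13 = 1 := by
    have := pow_eq_pow_iff_modEq.mp (show y ^ 1 = y ^ i ^ 5 by rw [pow_one]; exact h5)
    rw [hy] at this
    exact this.symm
  have hsmall : ∀ j < 13, j ^ 5 % 13 = 1 → j = 1 := by decide
  have hi1 : i % 13 = 1 := hsmall _ (Nat.mod_lt _ (by norm_num)) (by rw [← Nat.pow_mod]; exact hmod)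
  rw [← pow_mod_orderOf, hy, hi1, pow_one] at hi'
  calc x * y = x * y * x⁻¹ * x := by group
    _ = y * x := by rw [hi']

/-- no element of order sixteen in an overgroup of `P` of order 15600 -/
theorem no_sixteen {X : Subgroup S} (hXM : X ≤ M) (hX : Nat.card X = 15600)
    (hP : gensSub pGens ≤ X) {w : S} (hw : w ∈ X) (ho : orderOf w = 16) : False := by
  haveI : Fact (Nat.Prime 2) := ⟨by norm_num⟩
  haveI : Fact (Nat.Prime 13) := ⟨by norm_num⟩
  set z : X := ⟨w, hw⟩ with hz
  have hzo : orderOf z = 16 := by rw [hz, Subgroup.orderOf_mk, ho]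
  have hp2 : IsPGroup 2 (Subgroup.zpowers z) :=
    IsPGroup.of_card (n := 4) (by rw [Nat.card_zpowers, hzo]; norm_num)
  obtain ⟨Q, hQ⟩ := hp2.exists_le_sylow
  have hfac : (15600 : ℕ).factorization 2 = 4 := by decide +kernel
  have hQcard : Nat.card Q = 16 := by
    rw [Q.card_eq_multiplicity, hX, hfac]
    norm_num
  have hQz : Subgroup.zpowers z = (Q : Subgroup X) :=
    Subgroup.eq_of_le_of_card_ge hQ (by rw [Nat.card_zpowers, hzo]; exact hQcard.le)
  haveI hcyc : IsCyclic (Q : Subgroup X) := hQz ▸ inferInstance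
  have hle := IsCyclic.normalizer_le_centralizer (G := X)
    (show (Nat.card X).minFac = 2 by rw [hX]; norm_num) (P := Q) hcyc
  have hcomp := MonoidHom.ker_transferSylow_isComplement' Q hle
  set K := (MonoidHom.transferSylow Q hle).ker with hK
  have hKcard : Nat.card K = 975 := by
    have h := hcomp.card_mul
    rw [hX, show Nat.card (Q : Subgroup X) = 16 from hQcard] at h
    omega
  obtain ⟨y, hy⟩ := exists_prime_orderOf_dvd_card' (G := K) 13 (by rw [hKcard]; norm_num)
  have hn1 : Nat.card (Sylow 13 K) = 1 := by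
    obtain ⟨R⟩ : Nonempty (Sylow 13 K) := inferInstance
    have hR : Nat.card R = 13 := by
      rw [R.card_eq_multiplicity, hKcard, show (975 : ℕ).factorization 13 = 1 by decide +kernel]
      norm_num
    have h1 : Nat.card (Sylow 13 K) ∣ 75 := by
      refine R.card_dvd_index.trans (Eq.dvd ?_)
      have h := R.toSubgroup.card_mul_index
      rw [show Nat.card R.toSubgroup = 13 from hR, hKcard] at h
      omega
    have h2 : Nat.card (Sylow 13 K) % 13 = 1 := card_sylow_modEq_one 13 K
    have hsmall : ∀ j ≤ 75, j ∣ 75 → j % 13 = 1 → j = 1 := by decide +kernel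
    exact hsmall _ (Nat.le_of_dvd (by norm_num) h1) h1 h2
  haveI : Subsingleton (Sylow 13 K) := (Nat.card_eq_one_iff_unique.mp hn1).1
  have hmemz : ∀ u : K, orderOf u = 13 → u ∈ Subgroup.zpowers y := by
    intro u hu
    obtain ⟨R₁, hR₁⟩ := (IsPGroup.of_card (p := 13) (n := 1) (G := Subgroup.zpowers u)
      (by rw [Nat.card_zpowers, hu]; norm_num)).exists_le_sylow
    obtain ⟨R₂, hR₂⟩ := (IsPGroup.of_card (p := 13) (n := 1) (G := Subgroup.zpowers y)
      (by rw [Nat.card_zpowers, hy]; norm_num)).exists_le_sylow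
    have hR : Nat.card R₂ = 13 := by
      rw [R₂.card_eq_multiplicity, hKcard, show (975 : ℕ).factorization 13 = 1 by decide +kernel]
      norm_num
    have he : Subgroup.zpowers y = (R₂ : Subgroup K) :=
      Subgroup.eq_of_le_of_card_ge hR₂ (by rw [Nat.card_zpowers, hy]; exact hR.le)
    rw [he, ← Subsingleton.elim R₁ R₂]
    exact hR₁ (Subgroup.mem_zpowers u)
  have hy13 : orderOf ((y : X) : S) = 13 := by rw [Subgroup.orderOf_coe, Subgroup.orderOf_coe, hy]
  have hcm : ∀ p ∈ pGens, el p * ((y : X) : S) = ((y : X) : S) * el p := by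
    intro p hp
    set x : X := ⟨el p, hP (el_mem_gensSub hp)⟩ with hx
    have h5 : x ^ 5 = 1 := Subtype.ext (gen_pow_five hp)
    have hyo : orderOf (y : X) = 13 := by rw [Subgroup.orderOf_coe, hy]
    have hmemK : x * (y : X) * x⁻¹ ∈ K :=
      (MonoidHom.normal_ker (MonoidHom.transferSylow Q hle)).conj_mem _ y.2 x
    have hou : orderOf (⟨_, hmemK⟩ : K) = 13 := by
      rw [Subgroup.orderOf_mk, show x * (y : X) * x⁻¹ = MulAut.conj x (y : X) from rfl, MulEquiv.orderOf_eq, hyo]
    have h := hmemz _ hou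
    have h' : x * (y : X) * x⁻¹ ∈ Subgroup.zpowers (y : X) := by
      obtain ⟨k, hk⟩ := Subgroup.mem_zpowers_iff.mp h
      exact Subgroup.mem_zpowers_iff.mpr ⟨k, by simpa using congrArg Subtype.val hk⟩
    simpa [hx] using congrArg Subtype.val (commute_of_normalised hyo h5 h')
  refine no_thirteen (hXM (y : X).2) hy13 fun c hc => ?_
  have hfix : ∀ p ∈ pGens, π (el p) (π ((y : X) : S) c) = π ((y : X) : S) c := by
    intro p hp
    rw [← Equiv.Perm.mul_apply, ← map_mul, hcm p hp, map_mul, Equiv.Perm.mul_apply,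
      P_fix (el_mem_gensSub hp) hc]
  exact fix_in_four (DTwo_inv (hXM (y : X).2) (four_two hc)) (hfix _ (by simp [pGens])) (hfix _ (by simp [pGens]))

theorem mem_small {K X : Subgroup S} (hKX : K ≤ X) (h : Nat.card X ≤ 4 * Nat.card K) {x : S}
    (hx : x ∈ X) (h5 : x ^ 5 = 1) : x ∈ K := by
  have := mem_of_pow_five (K := K.subgroupOf X)
    (by rwa [Nat.card_congr (Subgroup.subgroupOfEquivOfLe hKX).toEquiv])
    (x := ⟨x, hx⟩) (Subtype.ext h5)
  exact Subgroup.mem_subgroupOf.mp this

/-- `P` is not normal in an overgroup of order 15600 -/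
theorem exists_moving {X : Subgroup S} (hXM : X ≤ M) (hX : Nat.card X = 15600)
    (hP : gensSub pGens ≤ X) :
    ∃ x ∈ X, ¬ ∀ q ∈ gensSub pGens, x * q * x⁻¹ ∈ gensSub pGens := by
  by_contra hno
  simp only [not_exists, not_and, not_not] at hno
  have hinv : ∀ g ∈ X, ∀ c ∈ Fset, π g c ∈ Fset := by
    intro g hg c hc
    have hfix : ∀ p ∈ pGens, π (el p) (π g c) = π g c := by
      intro p hp
      have h := hno g⁻¹ (X.inv_mem hg) _ (el_mem_gensSub hp)
      rw [inv_inv] at h
      have h2 := P_fix h hc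
      rw [map_mul, map_mul, map_inv, Equiv.Perm.mul_apply, Equiv.Perm.mul_apply, Equiv.Perm.inv_eq_iff_eq] at h2
      exact h2
    exact fix_in_four (DTwo_inv (hXM hg) (four_two hc)) (hfix _ (by simp [pGens])) (hfix _ (by simp [pGens]))
  set Y := fixIn X eR with hY
  have horb : (orb X eR).card ≤ 4 := by
    refine (Finset.card_le_card ?_).trans card_Fset_le
    intro c hc
    obtain ⟨g, hg, rfl⟩ := mem_orb.mp hc
    exact hinv g hg _ eR_four
  have hmul := card_orb_mul X eR
  rw [hX, ← hY] at hmul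
  have hYbig : Nat.card (fixIn M eR) ≤ 4 * Nat.card Y := by
    rw [card_fix_eR, ← hmul]
    exact Nat.mul_le_mul_right _ horb
  obtain ⟨h1, h2, h3, h4, h5⟩ := five_elt_ok
  have hw5 : el wFive ^ 5 = 1 := by rw [← el_flatten_replicate, eqW_el h3, el_nil]
  have hwM : el wFive ∈ fixIn M eR := mem_fixIn.mpr ⟨el_mem_M h1, Fin.ext (by
    rw [π_el _ (below_mono (by norm_num) h1)]; exact Nat.beq_eq.mp h2)⟩
  have hYle : Y ≤ fixIn M eR := fun a ha => by
    rw [hY, mem_fixIn] at ha
    exact mem_fixIn.mpr ⟨hXM ha.1, ha.2⟩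
  have hwY := mem_small hYle hYbig hwM hw5
  rw [hY, mem_fixIn] at hwY
  obtain ⟨z, hz, he⟩ := List.any_eq_true.mp h4
  rw [Nat.beq_eq] at he
  have hmv : wFiveMoves < 4060 := he ▸ four_lt hz
  set s : Fin 4060 := ⟨wFiveMoves, hmv⟩ with hs
  have hsF : s ∈ Fset := mem_Fset.mpr (show wFiveMoves ∈ fourPts from he ▸ hz)
  have hne : π (el wFive) s ≠ s := fun e => by
    have := π_el wFive (below_mono (by norm_num) h1) s
    rw [e] at this
    rw [show tgt wFive wFiveMoves = wFiveMoves from this.symm] at h5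
    simp at h5
  apply hne
  have h := card_orb_mul (Subgroup.zpowers (el wFive)) s
  have hsub : orb (Subgroup.zpowers (el wFive)) s ⊆ Fset := by
    intro t ht
    obtain ⟨u, hu, rfl⟩ := mem_orb.mp ht
    exact hinv u (Subgroup.zpowers_le.mpr hwY.1 hu) s hsF
  have hle := (Finset.card_le_card hsub).trans card_Fset_le
  have hord : orderOf (el wFive) ∣ 5 := orderOf_dvd_of_pow_eq_one hw5
  rw [Nat.card_zpowers] at h
  have hd : (orb (Subgroup.zpowers (el wFive)) s).card ∣ 5 := (Dvd.intro _ h).trans hord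
  rcases (Nat.dvd_prime (by norm_num : Nat.Prime 5)).mp hd with h1' | h1'
  · obtain ⟨t, ht⟩ := Finset.card_eq_one.mp h1'
    have e1 : π (el wFive) s ∈ orb (Subgroup.zpowers (el wFive)) s :=
      mem_orb.mpr ⟨_, Subgroup.mem_zpowers _, rfl⟩
    have e2 : s ∈ orb (Subgroup.zpowers (el wFive)) s := mem_orb.mpr ⟨1, Subgroup.one_mem _, by simp⟩
    rw [ht, Finset.mem_singleton] at e1 e2
    rw [e1, e2]
  · omega

theorem ord_lemma {n : ℕ} {ds : List ℕ} {s : List ℕ} (h : ordOK n ds s = true) :
    el s ^ n = 1 ∧ ∀ d ∈ ds, el s ^ d ≠ 1 := by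
  simp only [ordOK, Bool.and_eq_true, List.all_eq_true, Bool.not_eq_true'] at h
  obtain ⟨⟨hs, hn⟩, hd⟩ := h
  refine ⟨by rw [← el_flatten_replicate, eqW_el hn, el_nil], fun d hd' => ?_⟩
  rw [← el_flatten_replicate, ← el_nil]
  exact el_ne (below_flatten_replicate hs d) rfl (hd d hd')

/-- an overgroup of `P` of order 15600 fixes one of the four points -/
theorem fix_of_sylow_five {X : Subgroup S} (hXM : X ≤ M) (hX : Nat.card X = 15600)
    (hP : gensSub pGens ≤ X) : ∃ d ∈ DTwo, X = fixIn M d := by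
  classical
  obtain ⟨x, hxX, hxP⟩ := exists_moving hXM hX hP
  obtain ⟨r, a, hr, hrb, n, -, hn, hxe⟩ := cover (hXM hxX)
  have hp := hP (pW_spec a).2
  have hr0 : r ≠ 0 := by
    rintro rfl
    apply hxP
    rw [rep_zero, el_nil, mul_one] at hxe
    have hnmap : (gensSub pGens).map (MulAut.conj n⁻¹).toMonoidHom = gensSub pGens :=
      Subgroup.eq_of_le_of_card_ge (by rintro _ ⟨q, hq, rfl⟩; simpa [MulAut.conj_apply] using hn q hq)
        (le_of_eq (Nat.card_congr ((gensSub pGens).equivMapOfInjective _ (MulAut.conj n⁻¹).injective).toEquiv))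
    intro q hq
    have hq' : n * q * n⁻¹ ∈ gensSub pGens := by
      rw [← hnmap] at hq
      obtain ⟨q', hq', e⟩ := hq
      rw [← e]
      simpa [MulAut.conj_apply, mul_assoc] using hq'
    have hpP := (pW_spec a).2
    rw [hxe, show el (pW a) * n * q * (el (pW a) * n)⁻¹ = el (pW a) * (n * q * n⁻¹) * (el (pW a))⁻¹ by group]
    exact Subgroup.mul_mem _ (Subgroup.mul_mem _ hpP hq') (Subgroup.inv_mem _ hpP)
  have hQ : ∀ q ∈ gensSub pGens, el (repW r) * q * (el (repW r))⁻¹ ∈ X := by
    intro q hq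
    have h := X.mul_mem (X.mul_mem (X.inv_mem hp)
      (X.mul_mem (X.mul_mem hxX (hP (hn q hq))) (X.inv_mem hxX))) hp
    rw [hxe] at h
    convert h using 1
    group
  have hgen : ∀ w ∈ qGens r, el w ∈ X := by
    intro w hw
    simp only [qGens, List.mem_cons, List.not_mem_nil, or_false] at hw
    rcases hw with rfl | rfl | rfl | rfl
    · exact hP (el_mem_gensSub (by simp [pGens]))
    · exact hP (el_mem_gensSub (by simp [pGens]))
    · rw [el_append, el_append, el_invW hrb, ← mul_assoc]
      exact hQ _ (el_mem_gensSub (by simp [pGens]))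
    · rw [el_append, el_append, el_invW hrb, ← mul_assoc]
      exact hQ _ (el_mem_gensSub (by simp [pGens]))
  have h := allRange_spec case_ok r (by omega) (by omega)
  simp only [caseOK] at h
  set e := nth (0, []) (nth [] certBlocks (r / 50)) (r % 50) with he
  by_cases hz : e.1 = 0
  · exfalso
    rw [show Nat.beq e.1 0 = true from Nat.beq_eq.mpr hz, cond_true, Bool.and_eq_true] at h
    obtain ⟨e1, e2⟩ := h
    obtain ⟨h16, h8⟩ := ord_lemma e2
    haveI : Fact (Nat.Prime 2) := ⟨by norm_num⟩
    refine no_sixteen hXM hX hP (w := el (nth ([], []) e.2 0).2) ?_ ?_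
    · rw [eqW_el e1]
      exact el_comp_mem hgen _
    · exact orderOf_eq_prime_pow (p := 2) (n := 3) (h8 8 List.mem_cons_self) h16
  · rw [show Nat.beq e.1 0 = false by simpa [Nat.beq_eq, ← Bool.not_eq_true] using hz, cond_false] at h
    simp only [Bool.and_eq_true] at h
    obtain ⟨⟨⟨⟨⟨⟨hcF, honly⟩, hfix⟩, e13⟩, o13⟩, e12⟩, o12⟩ := h
    obtain ⟨z, hzm, hze⟩ := List.any_eq_true.mp hcF
    rw [Nat.beq_eq] at hze
    have hcl : e.1 < 4060 := hze ▸ four_lt hzm
    set c : Fin 4060 := ⟨e.1, hcl⟩ with hc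
    have hcFs : c ∈ Fset := mem_Fset.mpr (show e.1 ∈ fourPts from hze ▸ hzm)
    set K := gensSub (qGens r) with hKdef
    have hKX : K ≤ X := gensSub_le hgen
    have hKc : K ≤ fixIn M c := gensSub_le fun w hw => by
      have h := List.all_eq_true.mp hfix w hw
      rw [Bool.and_eq_true, Nat.beq_eq] at h
      exact mem_fixIn.mpr ⟨el_mem_M h.1, Fin.ext ((π_el w (below_mono (by norm_num) h.1) _).trans h.2)⟩
    have hPK : gensSub pGens ≤ K := gensSub_le fun w hw => el_mem_gensSub (by
      simp only [pGens, List.mem_cons, List.not_mem_nil, or_false] at hw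
      rcases hw with rfl | rfl <;> simp [qGens])
    have hw13 : el (nth ([], []) e.2 0).2 ∈ K := by
      rw [eqW_el e13]; exact el_comp_mem (fun v hv => el_mem_gensSub hv) _
    have hw12 : el (nth ([], []) e.2 1).2 ∈ K := by
      rw [eqW_el e12]; exact el_comp_mem (fun v hv => el_mem_gensSub hv) _
    have hK3900 : 3900 ∣ Nat.card K := by
      have h25 : 25 ∣ Nat.card K := card_P_dvd.trans (Subgroup.card_dvd_of_le hPK)
      have h13 : 13 ∣ Nat.card K := by
        haveI : Fact (Nat.Prime 13) := ⟨by norm_num⟩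
        obtain ⟨hp13, hne⟩ := ord_lemma o13
        have ho := orderOf_eq_prime hp13 (by simpa using hne 1 List.mem_cons_self)
        rw [← ho, ← Subgroup.orderOf_mk (ha := hw13)]
        exact orderOf_dvd_natCard _
      have h12 : 12 ∣ Nat.card K := by
        obtain ⟨hp12, hne⟩ := ord_lemma o12
        have ho : orderOf (el (nth ([], []) e.2 1).2) = 12 := by
          refine orderOf_eq_of_pow_and_pow_div_prime (by norm_num) hp12 fun p hp hpd => ?_
          have hpl := Nat.le_of_dvd (by norm_num) hpd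
          have h23 : ∀ q ≤ 12, q ∣ 12 → q.Prime → q = 2 ∨ q = 3 := by decide
          rcases h23 p hpl hpd hp with rfl | rfl
          · exact hne 6 List.mem_cons_self
          · exact hne 4 (by simp)
        rw [← ho, ← Subgroup.orderOf_mk (ha := hw12)]
        exact orderOf_dvd_natCard _
      have h300 := (show Nat.Coprime 12 25 by norm_num).mul_dvd_of_dvd_of_dvd h12 h25
      exact (show Nat.Coprime 300 13 by norm_num).mul_dvd_of_dvd_of_dvd h300 h13
    have hbig : Nat.card X ≤ 4 * Nat.card K := by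
      rw [hX]
      have := Nat.le_of_dvd Nat.card_pos hK3900
      omega
    refine ⟨c, four_two hcFs, Subgroup.eq_of_le_of_card_ge (fun g hg => ?_) ?_⟩
    · refine mem_fixIn.mpr ⟨hXM hg, ?_⟩
      set d := π g c with hd
      have hdfix : ∀ w : S, w ∈ X → w ^ 5 = 1 → π w d = d := by
        intro w hw h5
        have hconj : g⁻¹ * w * g ∈ X := X.mul_mem (X.mul_mem (X.inv_mem hg) hw) hg
        have hp5 : (g⁻¹ * w * g) ^ 5 = 1 := by
          have := conj_pow (i := 5) (a := g⁻¹) (b := w)
          rw [inv_inv] at this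
          rw [this, h5, mul_one, inv_mul_cancel]
        have hm := (mem_fixIn.mp (hKc (mem_small hKX hbig hconj hp5))).2
        rw [map_mul, map_mul, map_inv, Equiv.Perm.mul_apply, Equiv.Perm.mul_apply, Equiv.Perm.inv_eq_iff_eq] at hm
        exact hm
      have hd2 : d ∈ DTwo := DTwo_inv (hXM hg) (four_two hcFs)
      have hdF : d ∈ Fset := fix_in_four hd2
        (hdfix _ (hP (el_mem_gensSub (by simp [pGens]))) (gen_pow_five (by simp [pGens])))
        (hdfix _ (hP (el_mem_gensSub (by simp [pGens]))) (gen_pow_five (by simp [pGens])))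
      set t := el (repW r) with ht
      have htM : t ∈ M := el_mem_M hrb
      set d' := π t⁻¹ d with hd'
      have hd'2 : d' ∈ DTwo := DTwo_inv (M.inv_mem htM) hd2
      have hback : ∀ p ∈ pGens, π (el p) d' = d' := by
        intro p hp'
        have h5 : (t * el p * t⁻¹) ^ 5 = 1 := by
          rw [conj_pow, gen_pow_five hp', mul_one, mul_inv_cancel]
        have hm := hdfix _ (hQ _ (el_mem_gensSub hp')) h5
        rw [map_mul, map_mul, Equiv.Perm.mul_apply, Equiv.Perm.mul_apply, ← hd'] at hm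
        apply (π t).injective
        rw [hm, hd', ← Equiv.Perm.mul_apply, ← map_mul, mul_inv_cancel, map_one, Equiv.Perm.one_apply]
      have hd'F : d' ∈ Fset := fix_in_four hd'2 (hback _ (by simp [pGens])) (hback _ (by simp [pGens]))
      have htd : π t d' = d := by
        rw [hd', ← Equiv.Perm.mul_apply, ← map_mul, mul_inv_cancel, map_one, Equiv.Perm.one_apply]
      have hh := List.all_eq_true.mp honly d'.val (mem_Fset.mp hd'F)
      have hv : tgt (repW r) d'.val = d.val := by
        rw [← π_el _ (below_mono (by norm_num) hrb) d', ← ht, htd]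
      rw [hv, Bool.or_eq_true] at hh
      rcases hh with hh | hh
      · exact Fin.ext (Nat.beq_eq.mp hh)
      · exfalso
        rw [Bool.not_eq_true', ← Bool.not_eq_true, List.any_eq_true] at hh
        exact hh ⟨d.val, mem_Fset.mp hdF, Nat.beq_eq.mpr rfl⟩
    · have h := card_orb_mul M c
      have hco : orb M c = DTwo := by
        rw [← orb_eR]
        exact orb_trans (orb_eR.symm ▸ four_two hcFs)
      rw [hco, card_DTwo, card_M] at h
      omega

/-- subgroups of index 2304 of `M` are point stabilisers -/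
theorem index_2304 {X : Subgroup S} (hXM : X ≤ M) (hX : Nat.card X = 15600) :
    ∃ d ∈ DTwo, X = fixIn M d := by
  haveI : Fact (Nat.Prime 5) := ⟨by norm_num⟩
  obtain ⟨m, hm, hmX⟩ := exists_conj_mem (p := 5) (k := 2) (Q := gensSub pGens) (X := X)
    P_le hXM isPGroup_pGens (by decide +kernel) (by rw [hX]; norm_num)
  obtain ⟨d, hd, h⟩ := fix_of_sylow_five (X := X.map (MulAut.conj m⁻¹).toMonoidHom)
    (by rintro _ ⟨x, hx, rfl⟩; exact M.mul_mem (M.mul_mem (M.inv_mem hm) (hXM hx)) (by simpa using hm))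
    (by rw [← hX]; exact Nat.card_congr (X.equivMapOfInjective _ (MulAut.conj m⁻¹).injective).symm.toEquiv)
    (fun q hq => ⟨m * q * m⁻¹, hmX q hq, by simp [MulAut.conj_apply, mul_assoc]⟩)
  refine ⟨π m d, DTwo_inv hm hd, ?_⟩
  rw [← fix_conj hm, ← h, Subgroup.map_map]
  convert (Subgroup.map_id X).symm using 2
  ext x
  simp [mul_assoc]

end H57.RUU
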