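import Cfsg.Agent.H57.RuUniq.SubU
import Cfsg.Agent.H57.RuUniq.SubF
import Cfsg.Agent.H57.RuUniq.Aut

/-!
Recognition of the Rudvalis group from its rank three action.
-/

set_option autoImplicit false
set_option maxRecDepth 100000

noncomputable section

namespace H57.RUU

section

variable {Ω : Type*} {G : Subgroup (Equiv.Perm Ω)} {a : Ω}

/-- the orbit of a point under the stabiliser, as a finset -/
def obs [Fintype Ω] (b : Ω) : Finset Ω := by
  classical
  exact Finset.univ.filter fun x => ∃ h : MulAction.stabilizer G a, h • b = x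

theorem mem_obs [Fintype Ω] {b x : Ω} :
    x ∈ obs (G := G) (a := a) b ↔ ∃ h : MulAction.stabilizer G a, h • b = x := by
  classical
  simp [obs]

theorem coe_obs [Fintype Ω] (b : Ω) :
    (obs (G := G) (a := a) b : Set Ω) = MulAction.orbit (MulAction.stabilizer G a) b := by
  ext x
  rw [Finset.mem_coe, mem_obs, MulAction.mem_orbit_iff]

theorem obs_smul [Fintype Ω] {b x : Ω} (h : MulAction.stabilizer G a) :
    h • x ∈ obs (G := G) (a := a) b ↔ x ∈ obs (G := G) (a := a) b := by
  rw [mem_obs, mem_obs]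
  constructor
  · rintro ⟨k, hk⟩
    exact ⟨h⁻¹ * k, by rw [mul_smul, hk, inv_smul_smul]⟩
  · rintro ⟨k, rfl⟩
    exact ⟨h * k, mul_smul _ _ _⟩

theorem obs_self [Fintype Ω] (b : Ω) : b ∈ obs (G := G) (a := a) b := mem_obs.mpr ⟨1, one_smul _ _⟩

theorem obs_eq [Fintype Ω] {b x : Ω} (h : x ∈ obs (G := G) (a := a) b) :
    obs (G := G) (a := a) x = obs (G := G) (a := a) b := by
  obtain ⟨k, rfl⟩ := mem_obs.mp h
  ext y
  rw [mem_obs, mem_obs]
  exact ⟨fun ⟨l, e⟩ => ⟨l * k, by rw [mul_smul, e]⟩, fun ⟨l, e⟩ => ⟨l * k⁻¹, by rw [mul_smul, inv_smul_smul, e]⟩⟩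

variable (φ : MulAction.stabilizer G a ≃* M)

/-- the image of the stabiliser of a further point -/
def imStab (b : Ω) : Subgroup S :=
  ((MulAction.stabilizer (MulAction.stabilizer G a) b).map φ.toMonoidHom).map M.subtype

theorem mem_imStab {b : Ω} {s : S} :
    s ∈ imStab φ b ↔ ∃ h : MulAction.stabilizer G a, h • b = b ∧ ((φ h : M) : S) = s := by
  constructor
  · rintro ⟨m, ⟨h, hh, rfl⟩, rfl⟩
    exact ⟨h, hh, rfl⟩
  · rintro ⟨h, hh, rfl⟩
    exact ⟨φ h, ⟨h, hh, rfl⟩, rfl⟩

theorem imStab_le (b : Ω) : imStab φ b ≤ M := Subgroup.map_subtype_le _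

theorem card_imStab [Fintype Ω] (b : Ω) :
    Nat.card (imStab φ b) * (obs (G := G) (a := a) b).card = 35942400 := by
  have h1 : Nat.card (imStab φ b) = Nat.card (MulAction.stabilizer (MulAction.stabilizer G a) b) := by
    rw [imStab, ← Nat.card_congr (Subgroup.equivMapOfInjective _ _ M.subtype_injective).toEquiv,
      ← Nat.card_congr (Subgroup.equivMapOfInjective _ _ φ.injective).toEquiv]
  rw [h1, ← Set.ncard_coe_finset, coe_obs, ← Nat.card_coe_set_eq, ← Nat.card_prod, ← card_M,
    ← Nat.card_congr φ.toEquiv]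
  exact Nat.card_congr ((Equiv.prodComm _ _).trans (MulAction.orbitProdStabilizerEquivGroup _ b))

theorem imStab_move {b : Ω} {d : Fin 4060} (hd : imStab φ b = fixIn M d) (m : M) :
    imStab φ (φ.symm m • b) = fixIn M (π (m : S) d) := by
  rw [← fix_conj m.2, ← hd]
  ext s
  rw [Subgroup.mem_map_equiv, MulAut.conj_symm_apply, mem_imStab, mem_imStab]
  constructor
  · rintro ⟨h, hh, rfl⟩
    refine ⟨(φ.symm m)⁻¹ * h * φ.symm m, by rw [mul_smul, mul_smul, hh, inv_smul_smul], ?_⟩
    simp
  · rintro ⟨h, hh, e⟩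
    refine ⟨φ.symm m * h * (φ.symm m)⁻¹, by rw [mul_smul, mul_smul, inv_smul_smul, hh], ?_⟩
    simp [e, mul_assoc]

theorem smul_eq_iff {b : Ω} {d : Fin 4060} (hd : imStab φ b = fixIn M d) (h k : MulAction.stabilizer G a) :
    h • b = k • b ↔ π (φ h : S) d = π (φ k : S) d := by
  have h1 : h • b = k • b ↔ (k⁻¹ * h) • b = b := by rw [mul_smul, inv_smul_eq_iff]
  have h2 : (k⁻¹ * h) • b = b ↔ ((φ (k⁻¹ * h) : M) : S) ∈ imStab φ b := by
    rw [mem_imStab]
    exact ⟨fun e => ⟨_, e, rfl⟩, fun ⟨l, e, e'⟩ => φ.injective (Subtype.ext e') ▸ e⟩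
  rw [h1, h2, hd, mem_fixIn, and_iff_right (φ (k⁻¹ * h)).2, map_mul, map_inv, Subgroup.coe_mul,
    Subgroup.coe_inv, map_mul, map_inv, Equiv.Perm.mul_apply, Equiv.Perm.inv_eq_iff_eq]

/-- the equivariant map on one orbit -/
def orbMap (b : Ω) (d : Fin 4060) (x : Ω) : Fin 4060 := by
  classical
  exact if h : ∃ k : MulAction.stabilizer G a, k • b = x then π (φ h.choose : S) d else 0

theorem orbMap_smul {b : Ω} {d : Fin 4060} (hd : imStab φ b = fixIn M d) (h : MulAction.stabilizer G a) :
    orbMap φ b d (h • b) = π (φ h : S) d := by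
  classical
  have he : ∃ k : MulAction.stabilizer G a, k • b = h • b := ⟨h, rfl⟩
  rw [orbMap, dif_pos he]
  exact (smul_eq_iff φ hd _ _).mp he.choose_spec

theorem orbMap_equiv [Fintype Ω] {b x : Ω} {d : Fin 4060} (hd : imStab φ b = fixIn M d)
    (hx : x ∈ obs (G := G) (a := a) b) (h : MulAction.stabilizer G a) :
    orbMap φ b d (h • x) = π (φ h : S) (orbMap φ b d x) := by
  obtain ⟨k, rfl⟩ := mem_obs.mp hx
  rw [← mul_smul, orbMap_smul φ hd, orbMap_smul φ hd, map_mul, Subgroup.coe_mul, map_mul,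
    Equiv.Perm.mul_apply]

theorem orbMap_image [Fintype Ω] {b : Ω} {d : Fin 4060} (hd : imStab φ b = fixIn M d) :
    (obs (G := G) (a := a) b).image (orbMap φ b d) = orb M d := by
  ext y
  rw [Finset.mem_image, mem_orb]
  constructor
  · rintro ⟨x, hx, rfl⟩
    obtain ⟨k, rfl⟩ := mem_obs.mp hx
    exact ⟨_, (φ k).2, (orbMap_smul φ hd k).symm⟩
  · rintro ⟨m, hm, rfl⟩
    exact ⟨φ.symm ⟨m, hm⟩ • b, mem_obs.mpr ⟨_, rfl⟩, by rw [orbMap_smul φ hd, MulEquiv.apply_symm_apply]⟩

theorem orbMap_injOn [Fintype Ω] {b : Ω} {d : Fin 4060} (hd : imStab φ b = fixIn M d) :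
    Set.InjOn (orbMap φ b d) (obs (G := G) (a := a) b) := by
  intro x hx y hy e
  obtain ⟨k, rfl⟩ := mem_obs.mp hx
  obtain ⟨l, rfl⟩ := mem_obs.mp hy
  rw [orbMap_smul φ hd, orbMap_smul φ hd] at e
  exact (smul_eq_iff φ hd _ _).mpr e

end

section

variable {Ω : Type*} [Fintype Ω] {G : Subgroup (Equiv.Perm Ω)} [MulAction.IsPretransitive G Ω] {a b c : Ω}

/-- neighbours: the orbital of `(a, b)` -/
def nbG (G : Subgroup (Equiv.Perm Ω)) (a b x : Ω) : Finset Ω := by
  classical
  exact Finset.univ.filter fun y => ∃ g : G, g • a = x ∧ g • b = y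

theorem mem_nbG {x y : Ω} : y ∈ nbG G a b x ↔ ∃ g : G, g • a = x ∧ g • b = y := by
  classical
  simp [nbG]

theorem nbG_smul (g : G) {x y : Ω} : g • y ∈ nbG G a b (g • x) ↔ y ∈ nbG G a b x := by
  rw [mem_nbG, mem_nbG]
  constructor
  · rintro ⟨k, h1, h2⟩
    exact ⟨g⁻¹ * k, by rw [mul_smul, h1, inv_smul_smul], by rw [mul_smul, h2, inv_smul_smul]⟩
  · rintro ⟨k, rfl, rfl⟩
    exact ⟨g * k, mul_smul _ _ _, mul_smul _ _ _⟩

theorem nbG_self : nbG G a b a = obs (G := G) (a := a) b := by
  ext y
  rw [mem_nbG, mem_obs]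
  exact ⟨fun ⟨g, h1, h2⟩ => ⟨⟨g, h1⟩, h2⟩, fun ⟨g, h⟩ => ⟨g.1, g.2, h⟩⟩

theorem card_nbG (x : Ω) : (nbG G a b x).card = (obs (G := G) (a := a) b).card := by
  classical
  obtain ⟨g, rfl⟩ := MulAction.exists_smul_eq G a x
  rw [← nbG_self (G := G) (a := a) (b := b)]
  refine (Finset.card_bij (fun y _ => g • y) (fun y hy => (nbG_smul g).mpr hy)
    (fun y _ z _ e => MulAction.injective g e) (fun y hy => ⟨g⁻¹ • y, ?_, smul_inv_smul _ _⟩)).symm
  rw [← nbG_smul g, smul_inv_smul]
  exact hy

end

set_option maxHeartbeats 2000000 in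
/-- the recognition theorem -/
theorem iso_ru {Ω : Type*} [Fintype Ω] [DecidableEq Ω] (hΩ : Fintype.card Ω = 4060)
    (G : Subgroup (Equiv.Perm Ω)) [MulAction.IsPretransitive G Ω] (a : Ω)
    (φ : MulAction.stabilizer G a ≃* M) (b₀ c₀ : Ω)
    (hb : (MulAction.orbit (MulAction.stabilizer G a) b₀).ncard  = 1755)
    (hc : (MulAction.orbit (MulAction.stabilizer G a) c₀).ncard  = 2304) : Nonempty (G ≃* S) := by
  classical
  rw [← coe_obs, Set.ncard_coe_finset] at hb hc
  -- the orbit of length 416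
  obtain ⟨b, hbmem, hXb⟩ : ∃ b ∈ obs (G := G) (a := a) b₀, imStab φ b = fixIn M dR := by
    have h := card_imStab φ b₀
    rw [hb] at h
    obtain ⟨d, hd, hX⟩ := index_1755 (imStab_le φ b₀) (by omega)
    rw [← orb_dR] at hd
    obtain ⟨m, hm, rfl⟩ := mem_orb.mp hd
    refine ⟨φ.symm ⟨m⁻¹, M.inv_mem hm⟩ • b₀, mem_obs.mpr ⟨_, rfl⟩, ?_⟩
    rw [imStab_move φ hX]
    simp
  rw [← obs_eq hbmem] at hb
  set Ob := obs (G := G) (a := a) b with hOb
  let N : Ω → Finset Ω := nbG G a b
  have hcardN : ∀ x, (N x).card  = 1755 := fun x => (card_nbG x).trans hb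
  have hNa : N a = Ob := nbG_self
  -- the three orbits
  have hfixa : ∀ x, a ∈ obs (G := G) (a := a) x → (obs (G := G) (a := a) x).card = 1 := by
    intro x hx
    rw [← obs_eq hx, Finset.card_eq_one]
    refine ⟨a, Finset.eq_singleton_iff_unique_mem.mpr ⟨obs_self _, fun y hy => ?_⟩⟩
    obtain ⟨h, rfl⟩ := mem_obs.mp hy
    exact h.2
  have haOb : a ∉ Ob := fun h => by have := hfixa _ h; rw [← hOb, hb] at this; norm_num at this
  have haOc : a ∉ obs (G := G) (a := a) c₀ := fun h => by have := hfixa _ h; omega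
  have hdisj : Disjoint Ob (obs (G := G) (a := a) c₀) := by
    rw [Finset.disjoint_left]
    intro x h1 h2
    rw [← obs_eq h1, obs_eq h2] at hOb
    rw [hOb] at hb
    omega
  have hcover : ∀ x, x = a ∨ x ∈ Ob ∨ x ∈ obs (G := G) (a := a) c₀ := by
    intro x
    have : insert a (Ob ∪ obs (G := G) (a := a) c₀) = Finset.univ := by
      refine Finset.eq_univ_of_card _ ?_
      rw [Finset.card_insert_of_notMem (by simp [haOb, haOc]), Finset.card_union_of_disjoint hdisj,
        hb, hc, hΩ]
    have hx : x ∈ insert a (Ob ∪ obs (G := G) (a := a) c₀) := this ▸ Finset.mem_univ x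
    simpa [Finset.mem_insert, Finset.mem_union] using hx
  have hNh : ∀ (h : MulAction.stabilizer G a) (x y : Ω), h • y ∈ N (h • x) ↔ y ∈ N x :=
    fun h x y => nbG_smul h.1
  -- symmetry
  have hsymm : ∀ x y, y ∈ N x → x ∈ N y := by
    have hin : ∀ x, (Finset.univ.filter fun y => x ∈ N y).card  = 1755 := by
      have hconst : ∀ x, (Finset.univ.filter fun y => x ∈ N y).card =
          (Finset.univ.filter fun y => a ∈ N y).card := by
        intro x
        obtain ⟨g, rfl⟩ := MulAction.exists_smul_eq G a x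
        refine (Finset.card_bij (fun y _ => g • y) (fun y hy => ?_) (fun y _ z _ e => MulAction.injective g e)
          (fun y hy => ⟨g⁻¹ • y, ?_, smul_inv_smul _ _⟩)).symm
        · simp only [Finset.mem_filter, Finset.mem_univ, true_and] at hy ⊢
          exact (nbG_smul g).mpr hy
        · simp only [Finset.mem_filter, Finset.mem_univ, true_and] at hy ⊢
          rwa [← smul_inv_smul g y, show N (g • g⁻¹ • y) = nbG G a b (g • g⁻¹ • y) from rfl, nbG_smul] at hy
      have hsum : ∑ x : Ω, (Finset.univ.filter fun y => x ∈ N y).card = ∑ y : Ω, (N y).card := by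
        simp only [Finset.card_filter]
        rw [Finset.sum_comm]
        refine Finset.sum_congr rfl fun y _ => ?_
        rw [Finset.sum_boole, Finset.filter_univ_mem]
        rfl
      simp only [hconst, hcardN, Finset.sum_const, Finset.card_univ, hΩ, smul_eq_mul] at hsum
      intro x
      rw [hconst]
      omega
    have haa : ∀ x, a ∈ N x ↔ x ∈ Ob := by
      intro x
      set I := Finset.univ.filter fun y => a ∈ N y with hI
      have hmem : ∀ y, y ∈ I ↔ a ∈ N y := fun y => by simp [hI]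
      have hst : ∀ (h : MulAction.stabilizer G a) y, y ∈ I → h • y ∈ I := by
        intro h y hy
        rw [hmem] at hy ⊢
        have := (hNh h y a).mpr hy
        rwa [show h • a = a from h.2] at this
      have hne : a ∉ I := by
        rw [hmem, hNa]
        exact haOb
      have hIc : I.card  = 1755 := hin a
      have hOI : Ob ⊆ I := by
        by_contra hno
        have hbI : b ∉ I := fun hb' => hno fun y hy => by
          obtain ⟨h, rfl⟩ := mem_obs.mp hy
          exact hst h b hb'
        have hIsub : I ⊆ obs (G := G) (a := a) c₀ := by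
          intro y hy
          rcases hcover y with rfl | h | h
          · exact absurd hy hne
          · exfalso
            obtain ⟨h', rfl⟩ := mem_obs.mp h
            exact hbI (by simpa using hst h'⁻¹ _ hy)
          · exact h
        obtain ⟨y, hy⟩ := Finset.card_pos.mp (hIc ▸ (by norm_num : 0 < 1755))
        have hcsub : obs (G := G) (a := a) c₀ ⊆ I := by
          intro z hz
          rw [← obs_eq (hIsub hy)] at hz
          obtain ⟨h', rfl⟩ := mem_obs.mp hz
          exact hst h' y hy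
        have := Finset.card_le_card hcsub
        omega
      rw [← hmem, ← Finset.eq_of_subset_of_card_le hOI (by rw [hIc, hb])]
    intro x y hxy
    obtain ⟨g, rfl⟩ := MulAction.exists_smul_eq G a x
    rw [← smul_inv_smul g y] at hxy ⊢
    rw [show N (g • a) = nbG G a b (g • a) from rfl, nbG_smul] at hxy
    rw [show N (g • g⁻¹ • y) = nbG G a b (g • g⁻¹ • y) from rfl, nbG_smul]
    change g⁻¹ • y ∈ N a at hxy
    rw [hNa] at hxy
    exact (haa _).mpr hxy
  have hirr : ∀ x, x ∉ N x := by
    intro x hx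
    obtain ⟨g, h1, h2⟩ := mem_nbG.mp hx
    exact haOb (MulAction.injective g (h1.trans h2.symm) ▸ obs_self b)
  have hab : a ∈ N b := hsymm a b (hNa.symm ▸ obs_self b)
  -- generic cardinality transport
  have hequi : ∀ (x₀ : Ω) (O : Finset Ω), (∀ (h : MulAction.stabilizer G a) y, y ∈ O → h • y ∈ O) →
      ∀ h : MulAction.stabilizer G a, (N (h • x₀) ∩ O).card = (N x₀ ∩ O).card := by
    intro x₀ O hO h
    refine (Finset.card_bij (fun y _ => h • y) (fun y hy => ?_) (fun y _ z _ e => MulAction.injective h e)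
      (fun y hy => ⟨h⁻¹ • y, ?_, smul_inv_smul _ _⟩)).symm
    · rw [Finset.mem_inter] at hy ⊢
      exact ⟨(hNh h _ _).mpr hy.1, hO h y hy.2⟩
    · rw [Finset.mem_inter] at hy ⊢
      refine ⟨(hNh h _ _).mp ?_, hO _ y hy.2⟩
      rw [smul_inv_smul]
      exact hy.1
  have hOst : ∀ (x : Ω) (h : MulAction.stabilizer G a) y, y ∈ obs (G := G) (a := a) x →
      h • y ∈ obs (G := G) (a := a) x := fun x h y hy => (obs_smul h).mpr hy
  set Oc := obs (G := G) (a := a) c₀ with hOc
  have hsplit : ∀ x, (if a ∈ N x then 1 else 0) + (N x ∩ Ob).card + (N x ∩ Oc).card  = 1755 := by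
    intro x
    rw [← hcardN x]
    have h1 : N x = (N x ∩ {a}) ∪ (N x ∩ Ob) ∪ (N x ∩ Oc) := by
      ext y
      have := hcover y
      simp only [Finset.mem_union, Finset.mem_inter, Finset.mem_singleton]
      constructor
      · intro hy
        rcases this with h | h | h
        · exact Or.inl (Or.inl ⟨hy, h⟩)
        · exact Or.inl (Or.inr ⟨hy, h⟩)
        · exact Or.inr ⟨hy, h⟩
      · rintro ((h | h) | h) <;> exact h.1
    have hs : ∀ (D : Finset Ω), (if a ∈ D then 1 else 0) = (D ∩ {a}).card := fun D => by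
      by_cases h : a ∈ D
      · rw [if_pos h, Finset.inter_singleton_of_mem h, Finset.card_singleton]
      · rw [if_neg h, Finset.inter_singleton_of_notMem h, Finset.card_empty]
    have hd1 : Disjoint (N x ∩ {a}) (N x ∩ Ob) :=
      Finset.disjoint_of_subset_left Finset.inter_subset_right
        (Finset.disjoint_of_subset_right Finset.inter_subset_right (Finset.disjoint_singleton_left.mpr haOb))
    have hd2 : Disjoint (N x ∩ {a} ∪ N x ∩ Ob) (N x ∩ Oc) := by
      refine Finset.disjoint_of_subset_right Finset.inter_subset_right ?_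
      rw [Finset.disjoint_union_left]
      exact ⟨Finset.disjoint_of_subset_left Finset.inter_subset_right (Finset.disjoint_singleton_left.mpr haOc),
        Finset.disjoint_of_subset_left Finset.inter_subset_right hdisj⟩
    rw [hs (N x), ← Finset.card_union_of_disjoint hd1, ← Finset.card_union_of_disjoint hd2, ← h1]
  -- image of the neighbours of `b` in the orbit of length 416
  set fb := orbMap φ b dR with hfb
  have hfbim : Ob.image fb = DOne := by rw [orbMap_image φ hXb, orb_dR]
  have hfbb : fb b = dR := by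
    have := orbMap_smul φ hXb 1
    simpa using this
  have hfbcard : ∀ T : Finset Ω, T ⊆ Ob → (T.image fb).card = T.card := fun T hT =>
    Finset.card_image_of_injOn ((orbMap_injOn φ hXb).mono (Finset.coe_subset.mpr hT))
  -- the orbit of length 2304
  obtain ⟨c, hcmem, hXc⟩ : ∃ c ∈ Oc, imStab φ c = fixIn M eR := by
    have h := card_imStab φ c₀
    rw [hc] at h
    obtain ⟨e, he, hX⟩ := index_2304 (imStab_le φ c₀) (by omega)
    rw [← orb_eR] at he
    obtain ⟨m, hm, rfl⟩ := mem_orb.mp he
    refine ⟨φ.symm ⟨m⁻¹, M.inv_mem hm⟩ • c₀, mem_obs.mpr ⟨_, rfl⟩, ?_⟩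
    rw [imStab_move φ hX]
    simp
  have hOc_eq : Oc = obs (G := G) (a := a) c := (obs_eq hcmem).symm
  set fc := orbMap φ c eR with hfc
  have hfcim : Oc.image fc = DTwo := by rw [hOc_eq, orbMap_image φ hXc, orb_eR]
  have hfcc : fc c = eR := by
    have := orbMap_smul φ hXc 1
    simpa using this
  set Tb := (N b ∩ Ob).image fb with hTb
  have hTb_sub : Tb ⊆ DOne := hfbim ▸ Finset.image_subset_image Finset.inter_subset_right
  have hTb_d : dR ∉ Tb := by
    intro h
    obtain ⟨y, hy, e⟩ := Finset.mem_image.mp h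
    rw [Finset.mem_inter] at hy
    have : y = b := orbMap_injOn φ hXb hy.2 (obs_self b) (e.trans hfbb.symm)
    exact hirr b (this ▸ hy.1)
  have hTb_st : Stable (fixIn M dR) Tb := by
    intro s hs y hy
    rw [← hXb, mem_imStab] at hs
    obtain ⟨h, hh, rfl⟩ := hs
    obtain ⟨x, hx, rfl⟩ := Finset.mem_image.mp hy
    rw [Finset.mem_inter] at hx
    refine Finset.mem_image.mpr ⟨h • x, Finset.mem_inter.mpr ⟨?_, hOst _ h x hx.2⟩, orbMap_equiv φ hXb hx.2 h⟩
    have := (hNh h b x).mpr hx.1
    rwa [hh] at this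
  obtain ⟨h474, h730⟩ := stable_dR_one hTb_sub hTb_d hTb_st
  rw [hTb, hfbcard _ Finset.inter_subset_right] at h474
  have hcases : (N b ∩ Oc).card = 0 ∨ (N b ∩ Oc).card = 1024 ∨ (N b ∩ Oc).card = 1280 ∨
      (N b ∩ Oc).card = 2304 := by
    have hsub : N b ∩ Oc ⊆ Oc := Finset.inter_subset_right
    have e : ((N b ∩ Oc).image fc).card = (N b ∩ Oc).card :=
      Finset.card_image_of_injOn ((orbMap_injOn φ hXc).mono (hOc_eq ▸ Finset.coe_subset.mpr hsub))
    rw [← e]
    refine stable_dR_two (hfcim ▸ Finset.image_subset_image hsub) ?_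
    intro s hs y hy
    rw [← hXb, mem_imStab] at hs
    obtain ⟨h, hh, rfl⟩ := hs
    obtain ⟨x, hx, rfl⟩ := Finset.mem_image.mp hy
    rw [Finset.mem_inter] at hx
    refine Finset.mem_image.mpr ⟨h • x, Finset.mem_inter.mpr ⟨?_, hOst _ h x hx.2⟩,
      orbMap_equiv φ hXc (hOc_eq ▸ hx.2) h⟩
    have := (hNh h b x).mpr hx.1
    rwa [hh] at this
  -- double counting
  have hdc : 1755 * (N b ∩ Oc).card  = 2304 * (N c₀ ∩ Ob).card := by
    have h1 : ∑ x ∈ Ob, (N x ∩ Oc).card  = 1755 * (N b ∩ Oc).card := by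
      rw [Finset.sum_const_nat (m := (N b ∩ Oc).card), hb]
      intro x hx
      obtain ⟨h, rfl⟩ := mem_obs.mp hx
      exact hequi b Oc (hOst c₀) h
    have h2 : ∑ y ∈ Oc, (N y ∩ Ob).card  = 2304 * (N c₀ ∩ Ob).card := by
      rw [Finset.sum_const_nat (m := (N c₀ ∩ Ob).card), hc]
      intro x hx
      obtain ⟨h, rfl⟩ := mem_obs.mp hx
      exact hequi c₀ Ob (hOst b) h
    rw [← h1, ← h2]
    have e1 : ∀ x, (N x ∩ Oc).card = ∑ y ∈ Oc, if y ∈ N x then 1 else 0 := fun x => by
      rw [Finset.sum_boole, Nat.cast_id, Finset.inter_comm, ← Finset.filter_mem_eq_inter]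
    have e2 : ∀ y, (N y ∩ Ob).card = ∑ x ∈ Ob, if x ∈ N y then 1 else 0 := fun y => by
      rw [Finset.sum_boole, Nat.cast_id, Finset.inter_comm, ← Finset.filter_mem_eq_inter]
    simp only [e1, e2]
    rw [Finset.sum_comm]
    refine Finset.sum_congr rfl fun y _ => Finset.sum_congr rfl fun x _ => ?_
    exact if_congr ⟨hsymm x y, hsymm y x⟩ rfl rfl
  have hNb := hsplit b
  rw [if_pos hab] at hNb
  have hlam : (N b ∩ Ob).card = 730 := by
    rcases hcases with h' | h' | h' | h'
    rotate_left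
    · omega
    · omega
    · omega
    · exfalso
      have h : (N b ∩ Ob).card = 1754 := by omega
      have hNbsub : N b ∩ Ob = Ob.erase b := by
        refine Finset.eq_of_subset_of_card_le (fun y hy => ?_) ?_
        · rw [Finset.mem_inter] at hy
          exact Finset.mem_erase.mpr ⟨fun e => hirr b (e ▸ hy.1), hy.2⟩
        · rw [Finset.card_erase_of_mem (obs_self b), h, hb]
      let cl : Ω → Finset Ω := fun x => insert x (N x)
      have hcla : cl a = insert a Ob := by simp only [cl, hNa]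
      have hclb : cl b = insert a Ob := by
        refine (Finset.eq_of_subset_of_card_le ?_ ?_).symm
        · intro y hy
          rcases Finset.mem_insert.mp hy with rfl | hy
          · exact Finset.mem_insert_of_mem hab
          · by_cases e : y = b
            · exact e ▸ Finset.mem_insert_self _ _
            · refine Finset.mem_insert_of_mem ?_
              have : y ∈ N b ∩ Ob := hNbsub.symm ▸ Finset.mem_erase.mpr ⟨e, hy⟩
              exact (Finset.mem_inter.mp this).1
        · rw [Finset.card_insert_of_notMem haOb, hb]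
          exact (Finset.card_insert_le _ _).trans (by rw [hcardN])
      have hclg : ∀ (g : G) (x : Ω), (cl (g • x) : Set Ω) = (fun y => g • y) '' (cl x : Set Ω) := by
        intro g x
        ext y
        simp only [Set.mem_image, Finset.mem_coe, cl, Finset.mem_insert]
        constructor
        · intro hy
          refine ⟨g⁻¹ • y, ?_, smul_inv_smul _ _⟩
          rcases hy with rfl | hy
          · exact Or.inl (inv_smul_smul _ _)
          · refine Or.inr ((nbG_smul g).mp ?_)
            rw [smul_inv_smul]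
            exact hy
        · rintro ⟨z, rfl | hz, rfl⟩
          · exact Or.inl rfl
          · exact Or.inr ((nbG_smul g).mpr hz)
      have hclx : ∀ x ∈ insert a Ob, cl x = insert a Ob := by
        intro x hx
        rcases Finset.mem_insert.mp hx with rfl | hx
        · exact hcla
        · obtain ⟨k, rfl⟩ := mem_obs.mp hx
          refine Finset.coe_injective ((hclg k.1 b).trans ?_)
          rw [hclb, ← hcla]
          rw [← hclg k.1 a, show k.1 • a = a from k.2]
      have hblk : MulAction.IsBlock G ((insert a Ob : Finset Ω) : Set Ω) := by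
        rw [MulAction.isBlock_iff_smul_eq_of_nonempty]
        intro g hg
        obtain ⟨z, hz1, hz2⟩ := hg
        obtain ⟨x, hx, rfl⟩ := hz1
        have h1 := hclg g x
        rw [hclx x hx, hclx _ hz2] at h1
        exact h1.symm
      have := hblk.ncard_dvd_card ⟨a, Finset.mem_coe.mpr (Finset.mem_insert_self a Ob)⟩
      rw [Set.ncard_coe_finset, Finset.card_insert_of_notMem haOb, hb, Nat.card_eq_fintype_card, hΩ] at this
      omega
  have hmu : (N c₀ ∩ Ob).card = 780 := by omega
  -- the map on all points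
  let f : Ω → Fin 4060 := fun x => if x = a then 0 else if x ∈ Ob then fb x else fc x
  have hfa : f a = 0 := by simp [f]
  have hfOb : ∀ x ∈ Ob, f x = fb x := fun x hx => by
    simp [f, hx, show x ≠ a from fun e => haOb (e ▸ hx)]
  have hfOc : ∀ x ∈ Oc, f x = fc x := fun x hx => by
    simp [f, show x ∉ Ob from fun e => Finset.disjoint_left.mp hdisj e hx,
      show x ≠ a from fun e => haOc (e ▸ hx)]
  have hf1 : ∀ x ∈ Ob, f x ∈ DOne := fun x hx => by
    rw [hfOb x hx, ← hfbim]; exact Finset.mem_image_of_mem _ hx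
  have hf2 : ∀ x ∈ Oc, f x ∈ DTwo := fun x hx => by
    rw [hfOc x hx, ← hfcim]; exact Finset.mem_image_of_mem _ hx
  have hD01 : (0 : Fin 4060) ∉ DOne := zero_not_one
  have hD02 : (0 : Fin 4060) ∉ DTwo := zero_not_two
  have hD12 : ∀ y, y ∈ DOne → y ∉ DTwo := by
    intro y h1 h2
    exact absurd (DOne_DTwo ▸ Finset.mem_inter.mpr ⟨h1, h2⟩) (Finset.notMem_empty y)
  have hinj : Function.Injective f := by
    intro x y e
    rcases hcover x with hx | hx | hx <;> rcases hcover y with hy | hy | hy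
    · rw [hx, hy]
    · rw [hx, hfa] at e; exact absurd (e ▸ hf1 y hy) hD01
    · rw [hx, hfa] at e; exact absurd (e ▸ hf2 y hy) hD02
    · rw [hy, hfa] at e; exact absurd (e ▸ hf1 x hx) hD01
    · rw [hfOb x hx, hfOb y hy] at e; exact orbMap_injOn φ hXb hx hy e
    · exact absurd (hf2 y hy) (hD12 _ (e ▸ hf1 x hx))
    · rw [hy, hfa] at e; exact absurd (e ▸ hf2 x hx) hD02
    · exact absurd (hf2 x hx) (hD12 _ (e.symm ▸ hf1 y hy))
    · rw [hfOc x hx, hfOc y hy] at e
      exact orbMap_injOn φ hXc (hOc_eq ▸ hx) (hOc_eq ▸ hy) e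
  have hbij : Function.Bijective f :=
    (Fintype.bijective_iff_injective_and_card f).mpr ⟨hinj, by rw [hΩ, Fintype.card_fin]⟩
  have heqv : ∀ (h : MulAction.stabilizer G a) x, f (h • x) = π (φ h : S) (f x) := by
    intro h x
    rcases hcover x with hx | hx | hx
    · rw [hx, show h • a = a from h.2, hfa]
      exact (mem_M.mp (φ h).2).symm
    · rw [hfOb _ (hOst _ h x hx), hfOb x hx]
      exact orbMap_equiv φ hXb hx h
    · rw [hfOc _ (hOst _ h x hx), hfOc x hx]
      exact orbMap_equiv φ hXc (hOc_eq ▸ hx) h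
  -- adjacency
  have hfst : ∀ (x₀ : Ω) (r : Fin 4060) (O : Finset Ω), f x₀ = r →
      (∀ (h : MulAction.stabilizer G a) y, y ∈ O → h • y ∈ O) →
      (N x₀ ∩ O).image f = nbr r ∩ O.image f →
      ∀ h : MulAction.stabilizer G a, ∀ y ∈ O, y ∈ N (h • x₀) ↔ R0 (f (h • x₀)) (f y) := by
    intro x₀ r O hr hO hE h y hy
    obtain ⟨z, rfl⟩ : ∃ z, h • z = y := ⟨h⁻¹ • y, smul_inv_smul _ _⟩
    have hz : z ∈ O := by simpa using hO h⁻¹ _ hy
    rw [hNh h x₀ z, heqv, heqv, R0_smul, hr, ← mem_nbr]
    constructor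
    · intro hzN
      have : f z ∈ (N x₀ ∩ O).image f := Finset.mem_image_of_mem _ (Finset.mem_inter.mpr ⟨hzN, hz⟩)
      rw [hE] at this
      exact (Finset.mem_inter.mp this).1
    · intro hzn
      have : f z ∈ (N x₀ ∩ O).image f :=
        hE.symm ▸ Finset.mem_inter.mpr ⟨hzn, Finset.mem_image_of_mem _ hz⟩
      obtain ⟨w, hw, e⟩ := Finset.mem_image.mp this
      exact hinj e ▸ (Finset.mem_inter.mp hw).1
  have hObim : Ob.image f = DOne := (Finset.image_congr fun x hx => hfOb x hx).trans hfbim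
  have hOcim : Oc.image f = DTwo := (Finset.image_congr fun x hx => hfOc x hx).trans hfcim
  have hfbv : f b = dR := (hfOb b (obs_self b)).trans hfbb
  have hfcv : f c = eR := (hfOc c hcmem).trans hfcc
  have hmuc : (N c ∩ Ob).card = 780 := by
    obtain ⟨h, rfl⟩ := mem_obs.mp hcmem
    rw [hequi c₀ Ob (hOst b) h, hmu]
  have hEbb : (N b ∩ Ob).image f = nbr dR ∩ Ob.image f := by
    rw [hObim, nbr_dR, show (N b ∩ Ob).image f = Tb from
      Finset.image_congr fun x hx => hfOb x (Finset.mem_inter.mp hx).2]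
    exact h730 (by rw [hTb, hfbcard _ Finset.inter_subset_right, hlam])
  have hstab_c : ∀ O : Finset Ω, (∀ (h : MulAction.stabilizer G a) y, y ∈ O → h • y ∈ O) →
      Stable (fixIn M eR) ((N c ∩ O).image f) := by
    intro O hO s hs y hy
    rw [← hXc, mem_imStab] at hs
    obtain ⟨h, hh, rfl⟩ := hs
    obtain ⟨x, hx, rfl⟩ := Finset.mem_image.mp hy
    rw [Finset.mem_inter] at hx
    refine Finset.mem_image.mpr ⟨h • x, Finset.mem_inter.mpr ⟨?_, hO h x hx.2⟩, heqv h x⟩
    have := (hNh h c x).mpr hx.1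
    rwa [hh] at this
  have hEcb : (N c ∩ Ob).image f = nbr eR ∩ Ob.image f := by
    rw [hObim, nbr_eR_one]
    refine stable_eR_one (hObim ▸ Finset.image_subset_image Finset.inter_subset_right)
      (hstab_c Ob (hOst b)) ?_
    rw [Finset.card_image_of_injective _ hinj, hmuc]
  have hEcc : (N c ∩ Oc).image f = nbr eR ∩ Oc.image f := by
    rw [hOcim, nbr_eR_two]
    refine stable_eR_two (hOcim ▸ Finset.image_subset_image Finset.inter_subset_right) ?_
      (hstab_c Oc (hOst c₀)) ?_
    · intro h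
      obtain ⟨y, hy, e⟩ := Finset.mem_image.mp h
      exact hirr c (hinj (e.trans hfcv.symm) ▸ (Finset.mem_inter.mp hy).1)
    · rw [Finset.card_image_of_injective _ hinj]
      have := hsplit c
      have hac : a ∉ N c := fun h => by
        have := hsymm c a h
        rw [hNa] at this
        exact Finset.disjoint_left.mp hdisj this hcmem
      rw [if_neg hac, hmuc] at this
      omega
  have hadj : ∀ x y, y ∈ N x ↔ R0 (f x) (f y) := by
    have hA : ∀ y, y ∈ N a ↔ R0 (f a) (f y) := by
      intro y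
      rw [hNa, hfa, R0_zero, ← hObim]
      exact ⟨Finset.mem_image_of_mem _, fun h => by
        obtain ⟨z, hz, e⟩ := Finset.mem_image.mp h; exact hinj e ▸ hz⟩
    have hB : ∀ x ∈ Ob, ∀ y ∈ Ob, y ∈ N x ↔ R0 (f x) (f y) := by
      intro x hx y hy
      obtain ⟨h, rfl⟩ := mem_obs.mp hx
      exact hfst b dR Ob hfbv (hOst b) hEbb h y hy
    have hCB : ∀ x ∈ Oc, ∀ y ∈ Ob, y ∈ N x ↔ R0 (f x) (f y) := by
      intro x hx y hy
      rw [hOc_eq] at hx
      obtain ⟨h, rfl⟩ := mem_obs.mp hx
      exact hfst c eR Ob hfcv (hOst b) hEcb h y hy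
    have hCC : ∀ x ∈ Oc, ∀ y ∈ Oc, y ∈ N x ↔ R0 (f x) (f y) := by
      intro x hx y hy
      rw [hOc_eq] at hx
      obtain ⟨h, rfl⟩ := mem_obs.mp hx
      exact hfst c eR Oc hfcv (hOst c₀) hEcc h y hy
    have hsw : ∀ x y, (x ∈ N y ↔ R0 (f y) (f x)) → (y ∈ N x ↔ R0 (f x) (f y)) := fun x y h =>
      ⟨fun e => R0_symm (h.mp (hsymm x y e)), fun e => hsymm y x (h.mpr (R0_symm e))⟩
    intro x y
    rcases hcover x with rfl | hx | hx
    · exact hA y
    · rcases hcover y with rfl | hy | hy
      · exact hsw x _ (hA x)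
      · exact hB x hx y hy
      · exact hsw x y (hCB y hy x hx)
    · rcases hcover y with rfl | hy | hy
      · exact hsw x _ (hA x)
      · exact hCB x hx y hy
      · exact hCC x hx y hy
  -- the transported group
  let F : Ω ≃ Fin 4060 := Equiv.ofBijective f hbij
  let ψ : G →* Equiv.Perm (Fin 4060) := F.permCongrHom.toMonoidHom.comp G.subtype
  have hψ : ∀ (g : G) (x : Ω), ψ g (f x) = f (g • x) := by
    intro g x
    show F.permCongr (g : Equiv.Perm Ω) (F x) = F (g • x)
    rw [Equiv.permCongr_apply, Equiv.symm_apply_apply]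
    rfl
  have hψinj : Function.Injective ψ := F.permCongrHom.injective.comp G.subtype_injective
  have hψR : ∀ (g : G) x y, R0 (ψ g x) (ψ g y) ↔ R0 x y := by
    intro g x y
    obtain ⟨x, rfl⟩ := hbij.2 x
    obtain ⟨y, rfl⟩ := hbij.2 y
    rw [hψ, hψ, ← hadj, ← hadj]
    exact nbG_smul g
  have hψM : ∀ h : MulAction.stabilizer G a, ψ h.1 = π (φ h : S) := by
    intro h
    refine Equiv.ext fun x => ?_
    obtain ⟨x, rfl⟩ := hbij.2 x
    rw [hψ, ← heqv]
    rfl
  let T : Subgroup S := ψ.range.comap π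
  have hMT : M ≤ T := fun s hs => ⟨(φ.symm ⟨s, hs⟩).1, by rw [hψM, MulEquiv.apply_symm_apply]⟩
  have hcardG : Nat.card G = 145926144000 := by
    haveI : Finite G := inferInstance
    have h1 := Nat.card_congr (MulAction.orbitProdStabilizerEquivGroup G a)
    rw [Nat.card_prod, MulAction.orbit_eq_univ, Nat.card_congr (Equiv.Set.univ Ω),
      Nat.card_eq_fintype_card (α := Ω), hΩ, Nat.card_congr φ.toEquiv, card_M] at h1
    omega
  by_cases hT : T = ⊤
  · have hle : π.range ≤ ψ.range := by
      rintro _ ⟨s, rfl⟩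
      exact (Subgroup.mem_comap.mp (hT ▸ Subgroup.mem_top s : s ∈ T))
    have heq : π.range = ψ.range := by
      refine Subgroup.eq_of_le_of_card_ge hle ?_
      rw [← Nat.card_congr (MonoidHom.ofInjective hψinj).toEquiv,
        ← Nat.card_congr (MonoidHom.ofInjective π_injective).toEquiv, hcardG, H91.Ru.card_Ru]
    exact ⟨((MonoidHom.ofInjective hψinj).trans (MulEquiv.subgroupCongr heq.symm)).trans
      (MonoidHom.ofInjective π_injective).symm⟩
  exfalso
  have hTM : T = M := by
    by_contra hne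
    apply hT
    obtain ⟨t, ht, ht0⟩ : ∃ t ∈ T, π t 0 ≠ 0 := by
      by_contra hno
      simp only [not_exists, not_and, not_not] at hno
      exact hne (le_antisymm (fun t ht => mem_M.mpr (hno t ht)) hMT)
    have hfix : fixIn T 0 = M := by
      ext s
      rw [mem_fixIn, mem_M]
      exact ⟨fun h => h.2, fun h => ⟨hMT (mem_M.mpr h), h⟩⟩
    have h := card_orb_mul T 0
    rw [hfix, card_M] at h
    have hdvd : Nat.card T ∣ 145926144000 := H91.Ru.card_Ru ▸ Subgroup.card_subgroup_dvd_card T
    set O := orb T 0 with hO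
    have hk : O.card ∣ 4060 := by
      rw [← h] at hdvd
      exact Nat.dvd_of_mul_dvd_mul_right (by norm_num : 0 < 35942400) (by simpa using hdvd)
    have hst : ∀ s ∈ M, ∀ y ∈ O, π s y ∈ O := by
      intro s hs y hy
      obtain ⟨u, hu, rfl⟩ := mem_orb.mp hy
      exact mem_orb.mpr ⟨s * u, T.mul_mem (hMT hs) hu, by simp⟩
    have h0 : (0 : Fin 4060) ∈ O := mem_orb.mpr ⟨1, T.one_mem, by simp⟩
    have hsub : ∀ r : Fin 4060, r ∈ O → orb M r ⊆ O := by
      intro r hr y hy
      obtain ⟨s, hs, rfl⟩ := mem_orb.mp hy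
      exact hst s hs r hr
    have hwhole : ∀ y, y ∈ O → (y ∈ DOne → DOne ⊆ O) ∧ (y ∈ DTwo → DTwo ⊆ O) := by
      intro y hy
      refine ⟨fun h' => ?_, fun h' => ?_⟩
      · rw [← orb_dR] at h' ⊢
        rw [← orb_trans h']
        exact hsub y hy
      · rw [← orb_eR] at h' ⊢
        rw [← orb_trans h']
        exact hsub y hy
    obtain ⟨x, hx⟩ := hbij.2 (π t 0)
    have hOcard : O.card = 4060 := by
      have hsplit3 : ∀ y : Fin 4060, y = 0 ∨ y ∈ DOne ∨ y ∈ DTwo := by
        intro y
        obtain ⟨z, rfl⟩ := hbij.2 y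
        rcases hcover z with rfl | hz | hz
        · exact Or.inl hfa
        · exact Or.inr (Or.inl (hf1 z hz))
        · exact Or.inr (Or.inr (hf2 z hz))
      have hty : π t 0 ∈ O := mem_orb.mpr ⟨t, ht, rfl⟩
      by_cases h1 : DOne ⊆ O
      · by_cases h2 : DTwo ⊆ O
        · rw [Finset.eq_univ_of_forall (s := O) fun y => by
            rcases hsplit3 y with rfl | hy | hy
            exacts [h0, h1 hy, h2 hy], Finset.card_univ, Fintype.card_fin]
        · exfalso
          have : O = insert 0 DOne := by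
            refine Finset.Subset.antisymm (fun y hy => ?_) (Finset.insert_subset h0 h1)
            rcases hsplit3 y with rfl | hy' | hy'
            · exact Finset.mem_insert_self _ _
            · exact Finset.mem_insert_of_mem hy'
            · exact absurd ((hwhole y hy).2 hy') h2
          rw [this, Finset.card_insert_of_notMem hD01, card_DOne] at hk
          omega
      · exfalso
        have h2 : DTwo ⊆ O := by
          rcases hsplit3 (π t 0) with h' | h' | h'
          · exact absurd h' ht0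
          · exact absurd ((hwhole _ hty).1 h') h1
          · exact (hwhole _ hty).2 h'
        have : O = insert 0 DTwo := by
          refine Finset.Subset.antisymm (fun y hy => ?_) (Finset.insert_subset h0 h2)
          rcases hsplit3 y with rfl | hy' | hy'
          · exact Finset.mem_insert_self _ _
          · exact absurd ((hwhole y hy).1 hy') h1
          · exact Finset.mem_insert_of_mem hy'
        rw [this, Finset.card_insert_of_notMem hD02, card_DTwo] at hk
        omega
    refine Subgroup.eq_top_of_card_eq T ?_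
    rw [H91.Ru.card_Ru, ← h, hOcard]
  -- many automorphisms fixing a point
  have hlift : ∀ z : Fin 4060, ∃ g : G, ψ g z = 0 := by
    intro z
    obtain ⟨x, rfl⟩ := hbij.2 z
    obtain ⟨g, hg⟩ := MulAction.exists_smul_eq G x a
    exact ⟨g, by rw [hψ, hg, hfa]⟩
  choose t ht using transitive
  choose gy hgy using fun y => hlift (π (t y)⁻¹ 0)
  let A : Fin 4060 × M → Aut0 := fun p =>
    ⟨π (p.2 : S) * ψ (gy p.1) * π (t p.1)⁻¹, by
      refine ⟨?_, fun x y => ?_⟩
      · rw [Equiv.Perm.mul_apply, Equiv.Perm.mul_apply, hgy]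
        exact mem_M.mp p.2.2
      · simp only [Equiv.Perm.mul_apply, R0_smul, hψR]⟩
  have hA : Function.Injective A := by
    rintro ⟨y, m⟩ ⟨y', m'⟩ e
    have e' : π (m : S) * ψ (gy y) * π (t y)⁻¹ = π (m' : S) * ψ (gy y') * π (t y')⁻¹ :=
      congrArg Subtype.val e
    have hy : y = y' := by
      have hmem : (t y)⁻¹ * t y' ∈ T := by
        refine ⟨(gy y)⁻¹ * ((φ.symm m).1⁻¹ * (φ.symm m').1) * gy y', ?_⟩
        rw [map_mul, map_mul, map_mul, map_inv, map_inv, hψM, hψM, MulEquiv.apply_symm_apply,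
          MulEquiv.apply_symm_apply, map_mul]
        calc (ψ (gy y))⁻¹ * ((π (m : S))⁻¹ * π (m' : S)) * ψ (gy y')
            = (π (m : S) * ψ (gy y) * π (t y)⁻¹ * π (t y))⁻¹ *
              (π (m' : S) * ψ (gy y') * π (t y')⁻¹ * π (t y')) := by
              rw [map_inv, map_inv]; group
          _ = (π (t y))⁻¹ * π (t y') := by rw [e']; group
          _ = π (t y)⁻¹ * π (t y') := by rw [map_inv]
      rw [hTM, mem_M, map_mul, map_inv, Equiv.Perm.mul_apply, Equiv.Perm.inv_eq_iff_eq, ht, ht] at hmem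
      exact hmem.symm
    subst hy
    have : π (m : S) = π (m' : S) := mul_right_cancel (mul_right_cancel e')
    rw [show m = m' from Subtype.ext (π_injective this)]
  have hbig := Nat.card_le_card_of_injective A hA
  rw [Nat.card_prod, Nat.card_eq_fintype_card (α := Fin 4060), Fintype.card_fin, card_M] at hbig
  exact absurd (lt_of_le_of_lt hbig card_Aut0) (lt_irrefl _)

end H57.RUU
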