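import Cfsg.Agent.H57.RuUniq.Words
import Cfsg.Agent.H57.RuUniq.DataStab

/-!
The two orbits of the point stabiliser; orbits of stabilisers of two points.
-/

set_option autoImplicit false
set_option maxRecDepth 100000

noncomputable section

namespace H57.RUU

open H93.Coset (force force_eq allRange allRange_spec ev ev_append)

/-- closed under the eight letters of the stabiliser -/
def closedM (m : ℕ) : Bool :=
  allRange 0 4060 fun c => !(Nat.testBit m c) || (List.range 8).all fun g => Nat.testBit m (tgt [g] c)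

theorem closedM_spec {m : ℕ} (h : closedM m = true) {x : S} (hx : x ∈ M) :
    ∀ c : Fin 4060, Nat.testBit m c.val = true → Nat.testBit m (π x c).val = true := by
  rw [M_eq_gens] at hx
  refine Subgroup.closure_induction (p := fun x _ => ∀ c : Fin 4060,
    Nat.testBit m c.val = true → Nat.testBit m (π x c).val = true) ?_ ?_ ?_ ?_ hx
  · rintro _ ⟨w, hw, rfl⟩ c hc
    have := allRange_spec h c.val (Nat.zero_le _) (by omega)
    simp only [hc, Bool.not_true, Bool.false_or, List.all_eq_true, List.mem_range] at this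
    simp only [lettersM, List.mem_cons, List.not_mem_nil, or_false] at hw
    rcases hw with rfl | rfl | rfl | rfl | rfl | rfl | rfl | rfl <;>
      (rw [π_el _ (by decide)]; exact this _ (by norm_num))
  · intro c hc; simpa using hc
  · intro a b _ _ ha hb c hc
    rw [map_mul, Equiv.Perm.mul_apply]
    exact ha _ (hb c hc)
  · intro a _ ha c hc
    have hset : (maskSet m).image (π a) = maskSet m := by
      refine Finset.eq_of_subset_of_card_le ?_ ?_
      · intro d hd
        obtain ⟨e, he, rfl⟩ := Finset.mem_image.mp hd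
        exact mem_maskSet.mpr (ha e (mem_maskSet.mp he))
      · rw [Finset.card_image_of_injective _ (π a).injective]
    have h1 : c ∈ (maskSet m).image (π a) := hset.symm ▸ mem_maskSet.mpr hc
    obtain ⟨d, hd, rfl⟩ := Finset.mem_image.mp h1
    rw [map_inv, Equiv.Perm.inv_eq_iff_eq.mpr rfl]
    exact mem_maskSet.mp hd

/-- the mask of the orbit of length 1755 -/
def maskOne : ℕ := 2 ^ 1756 - 2

/-- the mask of the orbit of length 2304 -/
def maskTwo : ℕ := 2 ^ 4060 - 2 ^ 1756

/-- the orbit of length 1755 -/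
def DOne : Finset (Fin 4060) := maskSet maskOne

/-- the orbit of length 2304 -/
def DTwo : Finset (Fin 4060) := maskSet maskTwo

/-- the base point of the orbit of length 1755 -/
def dR : Fin 4060 := ⟨1, by norm_num⟩

/-- the base point of the orbit of length 2304 -/
def eR : Fin 4060 := ⟨1756, by norm_num⟩

theorem mask_ok : closedM maskOne = true ∧ closedM maskTwo = true ∧
    fill lettersM treeOne (2 ^ 1) = maskOne ∧ fill lettersM treeTwo (2 ^ 1756) = maskTwo ∧
    cntBits maskOne = 1755 ∧ cntBits maskTwo = 2304 ∧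
    Nat.testBit maskOne 1 = true ∧ Nat.testBit maskTwo 1756 = true ∧
    Nat.testBit maskOne 0 = false ∧ Nat.testBit maskTwo 0 = false ∧
    Nat.land maskOne maskTwo = 0 ∧ Nat.lor (Nat.lor maskOne maskTwo) 1 = 2 ^ 4060 - 1 := by
  decide +kernel

theorem orb_eq_maskSet {l : List (ℕ × ℕ × ℕ)} {r : Fin 4060} {m : ℕ}
    (h : fill lettersM l (2 ^ r.val) = m) (hc : closedM m = true) (hr : Nat.testBit m r.val = true) :
    orb M r = maskSet m := by
  refine Finset.Subset.antisymm (fun d hd => ?_) (maskSet_subset_orb (by decide)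
    (fun w hw => ?_) h)
  · obtain ⟨x, hx, rfl⟩ := mem_orb.mp hd
    exact mem_maskSet.mpr (closedM_spec hc hx r hr)
  · rw [M_eq_gens]
    exact el_mem_gensSub hw

theorem orb_dR : orb M dR = DOne :=
  orb_eq_maskSet (r := dR) mask_ok.2.2.1 mask_ok.1 mask_ok.2.2.2.2.2.2.1

theorem orb_eR : orb M eR = DTwo :=
  orb_eq_maskSet (r := eR) mask_ok.2.2.2.1 mask_ok.2.1 mask_ok.2.2.2.2.2.2.2.1

theorem card_DOne : DOne.card = 1755 := (card_maskSet _).trans mask_ok.2.2.2.2.1

theorem card_DTwo : DTwo.card = 2304 := (card_maskSet _).trans mask_ok.2.2.2.2.2.1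

theorem dR_mem : dR ∈ DOne := mem_maskSet.mpr mask_ok.2.2.2.2.2.2.1

theorem eR_mem : eR ∈ DTwo := mem_maskSet.mpr mask_ok.2.2.2.2.2.2.2.1

theorem zero_not_one : (0 : Fin 4060) ∉ DOne := fun h => by
  have := mem_maskSet.mp h
  rw [show ((0 : Fin 4060) : ℕ) = 0 from rfl, mask_ok.2.2.2.2.2.2.2.2.1] at this
  exact Bool.false_ne_true this

theorem zero_not_two : (0 : Fin 4060) ∉ DTwo := fun h => by
  have := mem_maskSet.mp h
  rw [show ((0 : Fin 4060) : ℕ) = 0 from rfl, mask_ok.2.2.2.2.2.2.2.2.2.1] at this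
  exact Bool.false_ne_true this

theorem DOne_DTwo : DOne ∩ DTwo = ∅ := by
  rw [DOne, DTwo, ← maskSet_land, mask_ok.2.2.2.2.2.2.2.2.2.2.1, maskSet_zero]

theorem point_cases (y : Fin 4060) : y = 0 ∨ y ∈ DOne ∨ y ∈ DTwo := by
  have h : y ∈ maskSet (Nat.lor (Nat.lor maskOne maskTwo) 1) := by
    rw [mask_ok.2.2.2.2.2.2.2.2.2.2.2, mem_maskSet, Nat.testBit_two_pow_sub_one]
    simp
  rw [maskSet_lor, maskSet_lor, Finset.mem_union, Finset.mem_union] at h
  rcases h with (h | h) | h
  · exact Or.inr (Or.inl h)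
  · exact Or.inr (Or.inr h)
  · left
    rw [mem_maskSet, Nat.testBit_one_eq_true_iff_self_eq_zero] at h
    exact Fin.ext h

theorem DOne_inv {x : S} (hx : x ∈ M) {c : Fin 4060} (hc : c ∈ DOne) : π x c ∈ DOne :=
  mem_maskSet.mpr (closedM_spec mask_ok.1 hx c (mem_maskSet.mp hc))

theorem DTwo_inv {x : S} (hx : x ∈ M) {c : Fin 4060} (hc : c ∈ DTwo) : π x c ∈ DTwo :=
  mem_maskSet.mpr (closedM_spec mask_ok.2.1 hx c (mem_maskSet.mp hc))

theorem card_fix_dR : Nat.card (fixIn M dR) = 20480 := by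
  have h := card_orb_mul M dR
  rw [orb_dR, card_DOne, card_M] at h
  omega

theorem card_fix_eR : Nat.card (fixIn M eR) = 15600 := by
  have h := card_orb_mul M eR
  rw [orb_eR, card_DTwo, card_M] at h
  omega

theorem fix_conj {m : S} (hm : m ∈ M) (r : Fin 4060) :
    (fixIn M r).map (MulAut.conj m).toMonoidHom = fixIn M (π m r) := by
  ext x
  rw [Subgroup.mem_map_equiv, MulAut.conj_symm_apply, mem_fixIn, mem_fixIn]
  refine and_congr ⟨fun h => ?_, fun h => M.mul_mem (M.mul_mem (M.inv_mem hm) h) hm⟩ ?_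
  · have := M.mul_mem (M.mul_mem hm h) (M.inv_mem hm)
    rwa [show m * (m⁻¹ * x * m) * m⁻¹ = x by group] at this
  · rw [map_mul, map_mul, map_inv, Equiv.Perm.mul_apply, Equiv.Perm.mul_apply, Equiv.Perm.inv_eq_iff_eq]

/-- a subgroup of `p`-power order moves into any subgroup of `M` with the full `p`-part -/
theorem exists_conj_mem {p k : ℕ} [Fact p.Prime] {Q X : Subgroup S} (hQ : Q ≤ M) (hX : X ≤ M)
    (hp : IsPGroup p Q) (hk : Nat.factorization 35942400 p = k) (hd : p ^ k ∣ Nat.card X) :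
    ∃ m ∈ M, ∀ q ∈ Q, m * q * m⁻¹ ∈ X := by
  obtain ⟨R, hR⟩ := Sylow.exists_subgroup_card_pow_prime (G := X) p hd
  let R' : Subgroup M := ((R.map X.subtype)).subgroupOf M
  have hle : R.map X.subtype ≤ M := le_trans (Subgroup.map_subtype_le R) hX
  have hR' : Nat.card R' = p ^ Nat.factorization (Nat.card M) p := by
    rw [card_M, hk, Nat.card_congr (Subgroup.subgroupOfEquivOfLe hle).toEquiv,
      ← Nat.card_congr (R.equivMapOfInjective _ X.subtype_injective).toEquiv, hR]
  let U' : Sylow p M := Sylow.ofCard R' hR'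
  have hQ' : IsPGroup p (Q.subgroupOf M) := hp.of_equiv (Subgroup.subgroupOfEquivOfLe hQ).symm
  obtain ⟨U, hU⟩ := hQ'.exists_le_sylow
  obtain ⟨g, hg⟩ := MulAction.exists_smul_eq M U U'
  refine ⟨g.1, g.2, fun q hq => ?_⟩
  have h1 : (⟨q, hQ hq⟩ : M) ∈ U.1 := hU (Subgroup.mem_subgroupOf.mpr hq)
  have h2 : MulAut.conj g • (⟨q, hQ hq⟩ : M) ∈ U'.1 := by
    rw [← hg]
    exact Subgroup.smul_mem_pointwise_smul _ _ _ h1
  have h3 : g.1 * q * g.1⁻¹ ∈ R.map X.subtype := Subgroup.mem_subgroupOf.mp h2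
  exact Subgroup.map_subtype_le R h3

/-- orbit certificates of a list -/
def orbOK (ws : List (List ℕ)) (L : List (ℕ × List (ℕ × ℕ × ℕ) × ℕ)) : Bool :=
  L.all fun o => Nat.blt o.1 4060 && Nat.beq (fill ws o.2.1 (2 ^ o.1)) o.2.2

theorem stab_ok : bSWords.all (fun w => below 8 w && Nat.beq (tgt w 1) 1) = true ∧
    cSWords.all (fun w => below 8 w && Nat.beq (tgt w 1756) 1756) = true ∧
    orbOK bSWords bSOrb = true ∧ orbOK cSWords cSOrb = true := by
  decide +kernel

/-- a piece lies in an orbit of the stabiliser of two points -/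
theorem piece_of_ok {b : Fin 4060} {ws : List (List ℕ)}
    (hws : ws.all (fun w => below 8 w && Nat.beq (tgt w b.val) b.val) = true)
    {L : List (ℕ × List (ℕ × ℕ × ℕ) × ℕ)} (hL : orbOK ws L = true) {o : ℕ × List (ℕ × ℕ × ℕ) × ℕ}
    (ho : o ∈ L) : ∀ c ∈ maskSet o.2.2, maskSet o.2.2 ⊆ orb (fixIn M b) c := by
  intro c hc
  have h := List.all_eq_true.mp hL o ho
  rw [Bool.and_eq_true, Nat.blt_eq, Nat.beq_eq] at h
  have hsub : maskSet o.2.2 ⊆ orb (fixIn M b) ⟨o.1, h.1⟩ := by
    refine maskSet_subset_orb (List.all_eq_true.mpr fun w hw => ?_) (fun w hw => ?_) h.2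
    · have := List.all_eq_true.mp hws w hw
      rw [Bool.and_eq_true] at this
      exact below_mono (by norm_num) this.1
    · have := List.all_eq_true.mp hws w hw
      rw [Bool.and_eq_true, Nat.beq_eq] at this
      refine mem_fixIn.mpr ⟨el_mem_M this.1, Fin.ext ?_⟩
      rw [π_el _ (below_mono (by norm_num) this.1)]
      exact this.2
  exact orb_trans (hsub hc) ▸ hsub

end H57.RUU
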