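import Cfsg.Agent.H57.RuUniq.Orbits
import Cfsg.Agent.H57.RuUniq.DataGraph

/-!
The graph of valency 1755 on the 4060 points; invariant sets of the stabilisers of two points.
-/

set_option autoImplicit false
set_option maxRecDepth 100000

noncomputable section

namespace H57.RUU

open H93.Coset (force force_eq allRange allRange_spec ev ev_append)

/-- adjacency: the orbital of `(0, 1)` -/
def R0 (x y : Fin 4060) : Prop := ∃ s : S, π s 0 = x ∧ π s dR = y

theorem R0_smul (s : S) {x y : Fin 4060} : R0 (π s x) (π s y) ↔ R0 x y := by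
  constructor
  · rintro ⟨t, h1, h2⟩
    refine ⟨s⁻¹ * t, ?_, ?_⟩ <;>
      rw [map_mul, Equiv.Perm.mul_apply, map_inv, Equiv.Perm.inv_eq_iff_eq]
    exacts [h1, h2]
  · rintro ⟨t, rfl, rfl⟩
    exact ⟨s * t, by simp, by simp⟩

theorem R0_zero {y : Fin 4060} : R0 0 y ↔ y ∈ DOne := by
  rw [← orb_dR, mem_orb]
  exact ⟨fun ⟨s, h1, h2⟩ => ⟨s, mem_M.mpr h1, h2⟩, fun ⟨s, h1, h2⟩ => ⟨s, mem_M.mp h1, h2⟩⟩

theorem swap_ok : below 10 swapW = true ∧ tgt swapW 0 = 1 ∧ tgt swapW 1 = 0 := by decide +kernel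

theorem R0_symm {x y : Fin 4060} (h : R0 x y) : R0 y x := by
  obtain ⟨s, rfl, rfl⟩ := h
  refine ⟨s * el swapW, ?_, ?_⟩ <;> rw [map_mul, Equiv.Perm.mul_apply] <;> congr 1 <;> apply Fin.ext <;>
    rw [π_el _ swap_ok.1]
  exacts [swap_ok.2.1, swap_ok.2.2]

/-- the point of a row -/
def rowV (i : ℕ) : ℕ := (rowData.getD i (0, 0, 0, 0)).1

/-- the mask of a row -/
def rowM (i : ℕ) : ℕ := (rowData.getD i (0, 0, 0, 0)).2.2.2

/-- one row follows from an earlier one -/
def rowStep (i : ℕ) : Bool :=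
  bif Nat.beq i 0 then Nat.beq (rowV i) 0 && Nat.beq (rowM i) maskOne
  else
    let e := rowData.getD i (0, 0, 0, 0)
    Nat.blt e.2.1 i && Nat.blt e.2.2.1 10 && Nat.beq (tgt [e.2.2.1] (rowV e.2.1)) (rowV i) &&
      force (rowM e.2.1) fun mp => force (rowM i) fun mi => allRange 0 4060 fun x =>
        Nat.testBit mi (T e.2.2.1 x) == Nat.testBit mp x

theorem rows_ok : allRange 0 73 rowStep = true := by decide +kernel

theorem row_spec : ∀ i < 73, ∃ h : rowV i < 4060, ∀ y : Fin 4060,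
    R0 ⟨rowV i, h⟩ y ↔ Nat.testBit (rowM i) y.val = true := by
  intro i
  induction i using Nat.strong_induction_on with
  | _ i ih =>
    intro hi
    have hs := allRange_spec rows_ok i (Nat.zero_le _) (by omega)
    by_cases h0 : i = 0
    · subst h0
      simp only [rowStep, show Nat.beq 0 0 = true from rfl, cond_true, Bool.and_eq_true, Nat.beq_eq] at hs
      refine ⟨by omega, fun y => ?_⟩
      rw [hs.2, show (⟨rowV 0, _⟩ : Fin 4060) = 0 from Fin.ext hs.1, R0_zero]
      exact mem_maskSet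
    · have hb : Nat.beq i 0 = false := by simpa [Nat.beq_eq, ← Bool.not_eq_true] using h0
      simp only [rowStep, hb, cond_false, force_eq, Bool.and_eq_true, Nat.blt_eq, Nat.beq_eq] at hs
      obtain ⟨⟨⟨hp, hg⟩, hv⟩, hall⟩ := hs
      set e := rowData.getD i (0, 0, 0, 0)
      obtain ⟨hpl, hpr⟩ := ih e.2.1 hp (by omega)
      have hb7 : below 10 [e.2.2.1] = true := by simp [below, hg]
      have hlt : rowV i < 4060 := by
        have h1 : ((π (el [e.2.2.1]) ⟨rowV e.2.1, hpl⟩ : Fin 4060) : ℕ) = tgt [e.2.2.1] (rowV e.2.1) :=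
          π_el _ hb7 _
        have h2 := (π (el [e.2.2.1]) ⟨rowV e.2.1, hpl⟩).isLt
        omega
      have hv' : π (el [e.2.2.1]) ⟨rowV e.2.1, hpl⟩ = ⟨rowV i, hlt⟩ := Fin.ext ((π_el _ hb7 _).trans hv)
      refine ⟨hlt, fun y => ?_⟩
      rw [← hv']
      obtain ⟨x, rfl⟩ := (π (el [e.2.2.1])).surjective y
      rw [R0_smul, hpr x, π_el _ hb7]
      have := allRange_spec hall x.val (Nat.zero_le _) (by omega)
      rw [beq_iff_eq] at this
      exact Iff.of_eq (congrArg (· = true) this.symm)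

/-- the neighbours of a point -/
def nbr (x : Fin 4060) : Finset (Fin 4060) := by
  classical
  exact Finset.univ.filter fun y => R0 x y

theorem mem_nbr {x y : Fin 4060} : y ∈ nbr x ↔ R0 x y := by
  classical
  simp [nbr]

theorem nbr_smul (s : S) (x : Fin 4060) : nbr (π s x) = (nbr x).image (π s) := by
  ext y
  obtain ⟨z, rfl⟩ := (π s).surjective y
  rw [Finset.mem_image, mem_nbr, R0_smul]
  exact ⟨fun h => ⟨z, mem_nbr.mpr h, rfl⟩, fun ⟨w, hw, e⟩ => (π s).injective e ▸ mem_nbr.mp hw⟩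

theorem nbr_zero : nbr 0 = DOne := by
  ext y
  rw [mem_nbr, R0_zero]

theorem nbr_row {i : ℕ} (hi : i < 73) {x : Fin 4060} (hx : x.val = rowV i) : nbr x = maskSet (rowM i) := by
  obtain ⟨h, hr⟩ := row_spec i hi
  ext y
  rw [mem_nbr, mem_maskSet, show x = ⟨rowV i, h⟩ from Fin.ext hx, hr]

/-- a set of points stable under a subgroup -/
def Stable (H : Subgroup S) (U : Finset (Fin 4060)) : Prop := ∀ x ∈ H, ∀ c ∈ U, π x c ∈ U

/-- union of masks -/
def lorL (L : List ℕ) : ℕ := L.foldr Nat.lor 0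

theorem mem_lorL {c : Fin 4060} : ∀ {L : List ℕ}, c ∈ maskSet (lorL L) ↔ ∃ m ∈ L, c ∈ maskSet m
  | [] => by simp [lorL, maskSet_zero]
  | m :: L => by
    rw [lorL, List.foldr_cons, maskSet_lor, Finset.mem_union, ← lorL, mem_lorL]
    simp

/-- a stable subset of a union of orbits is a union of some of them -/
theorem stable_union {H : Subgroup S} {L : List ℕ}
    (hp : ∀ m ∈ L, ∀ c ∈ maskSet m, maskSet m ⊆ orb H c) {U : Finset (Fin 4060)} (hs : Stable H U)
    (hU : U ⊆ maskSet (lorL L)) : ∃ sel ∈ L.sublists, U = maskSet (lorL sel) := by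
  classical
  refine ⟨L.filter fun m => decide (maskSet m ⊆ U), List.mem_sublists.mpr List.filter_sublist, ?_⟩
  ext c
  rw [mem_lorL]
  constructor
  · intro hc
    obtain ⟨m, hm, hcm⟩ := mem_lorL.mp (hU hc)
    refine ⟨m, List.mem_filter.mpr ⟨hm, decide_eq_true fun d hd => ?_⟩, hcm⟩
    obtain ⟨x, hx, rfl⟩ := mem_orb.mp (hp m hm c hcm hd)
    exact hs x hx c hc
  · rintro ⟨m, hm, hcm⟩
    exact of_decide_eq_true (List.mem_filter.mp hm).2 hcm

/-- the pieces of the stabiliser of `dR` -/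
def bPieces : List ℕ := bSOrb.map fun o => o.2.2

/-- the pieces of the stabiliser of `eR` -/
def cPieces : List ℕ := cSOrb.map fun o => o.2.2

theorem bPieces_orb : ∀ m ∈ bPieces, ∀ c ∈ maskSet m, maskSet m ⊆ orb (fixIn M dR) c := by
  intro m hm
  obtain ⟨o, ho, rfl⟩ := List.mem_map.mp hm
  exact piece_of_ok (b := dR) stab_ok.1 stab_ok.2.2.1 ho

theorem cPieces_orb : ∀ m ∈ cPieces, ∀ c ∈ maskSet m, maskSet m ⊆ orb (fixIn M eR) c := by
  intro m hm
  obtain ⟨o, ho, rfl⟩ := List.mem_map.mp hm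
  exact piece_of_ok (b := eR) stab_ok.2.1 stab_ok.2.2.2 ho

/-- the neighbours of `dR` in the first orbit -/
def adjB : ℕ := Nat.land (rowM posB) maskOne

/-- the neighbours of `eR` in the first orbit -/
def adjC1 : ℕ := Nat.land (rowM posC) maskOne

/-- the neighbours of `eR` in the second orbit -/
def adjC2 : ℕ := Nat.land (rowM posC) maskTwo

/-- what the unions of pieces look like -/
theorem unions_ok :
    Nat.lor (lorL (bPieces.take 4)) (2 ^ 1) = maskOne ∧ lorL (bPieces.drop 4) = maskTwo ∧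
    (bPieces.take 4).sublists.all (fun sel => force (cntBits (lorL sel)) fun n =>
      !(Nat.beq n 474) && (!(Nat.beq n 730) || Nat.beq (lorL sel) adjB)) = true ∧
    (bPieces.drop 4).sublists.all (fun sel => force (cntBits (lorL sel)) fun n =>
      Nat.beq n 0 || Nat.beq n 1024 || Nat.beq n 1280 || Nat.beq n 2304) = true ∧
    lorL (cPieces.take 2) = maskOne ∧ Nat.lor (lorL (cPieces.drop 2)) (2 ^ 1756) = maskTwo ∧
    (cPieces.take 2).sublists.all (fun sel => force (cntBits (lorL sel)) fun n =>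
      !(Nat.beq n 780) || Nat.beq (lorL sel) adjC1) = true ∧
    (cPieces.drop 2).sublists.all (fun sel => force (cntBits (lorL sel)) fun n =>
      !(Nat.beq n 975) || Nat.beq (lorL sel) adjC2) = true ∧
    posB < 73 ∧ posC < 73 ∧ rowV posB = 1 ∧ rowV posC = 1756 := by
  decide +kernel

theorem nbr_dR : nbr dR ∩ DOne = maskSet adjB := by
  obtain ⟨-, -, -, -, -, -, -, -, h1, -, h2, -⟩ := unions_ok
  rw [nbr_row h1 (x := dR) h2.symm, DOne, adjB, maskSet_land]

theorem nbr_eR_one : nbr eR ∩ DOne = maskSet adjC1 := by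
  obtain ⟨-, -, -, -, -, -, -, -, -, h1, -, h2⟩ := unions_ok
  rw [nbr_row h1 (x := eR) h2.symm, DOne, adjC1, maskSet_land]

theorem nbr_eR_two : nbr eR ∩ DTwo = maskSet adjC2 := by
  obtain ⟨-, -, -, -, -, -, -, -, -, h1, -, h2⟩ := unions_ok
  rw [nbr_row h1 (x := eR) h2.symm, DTwo, adjC2, maskSet_land]

theorem mem_two_pow_mask {c : Fin 4060} {r : Fin 4060} : c ∈ maskSet (2 ^ r.val) ↔ c = r := by
  rw [mem_maskSet, Nat.testBit_two_pow, decide_eq_true_eq]
  exact ⟨fun h => Fin.ext h.symm, fun h => h ▸ rfl⟩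

/-- stable sets of the stabiliser of `dR` in the first orbit -/
theorem stable_dR_one {U : Finset (Fin 4060)} (hU : U ⊆ DOne) (hd : dR ∉ U) (hs : Stable (fixIn M dR) U) :
    U.card ≠ 474 ∧ (U.card = 730 → U = maskSet adjB) := by
  obtain ⟨h1, -, h2, -⟩ := unions_ok
  obtain ⟨sel, hsel, he⟩ := stable_union (fun m hm => bPieces_orb m (List.mem_of_mem_take hm)) hs
    (L := bPieces.take 4) (fun c hc => by
      have := hU hc
      rw [DOne, ← h1, maskSet_lor, Finset.mem_union] at this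
      rcases this with h | h
      · exact h
      · exact absurd ((mem_two_pow_mask (r := dR)).mp h ▸ hc) hd)
  have h := List.all_eq_true.mp h2 sel hsel
  simp only [force_eq, Bool.and_eq_true, Bool.or_eq_true, Bool.not_eq_true', Nat.beq_eq] at h
  rw [he, card_maskSet]
  refine ⟨fun e => ?_, fun e => ?_⟩
  · rw [e] at h; exact absurd h.1 (by decide)
  · rw [e] at h
    rcases h.2 with h' | h'
    · exact absurd h' (by decide)
    · rw [h']

/-- stable sets of the stabiliser of `dR` in the second orbit -/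
theorem stable_dR_two {U : Finset (Fin 4060)} (hU : U ⊆ DTwo) (hs : Stable (fixIn M dR) U) :
    U.card = 0 ∨ U.card = 1024 ∨ U.card = 1280 ∨ U.card = 2304 := by
  obtain ⟨-, h1, -, h2, -⟩ := unions_ok
  obtain ⟨sel, hsel, he⟩ := stable_union (fun m hm => bPieces_orb m (List.mem_of_mem_drop hm)) hs
    (L := bPieces.drop 4) (by rw [h1]; exact hU)
  have h := List.all_eq_true.mp h2 sel hsel
  simp only [force_eq, Bool.or_eq_true, Nat.beq_eq] at h
  rw [he, card_maskSet]
  omega

theorem stable_eR_one {U : Finset (Fin 4060)} (hU : U ⊆ DOne) (hs : Stable (fixIn M eR) U)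
    (h780 : U.card = 780) : U = maskSet adjC1 := by
  obtain ⟨-, -, -, -, h1, -, h2, -⟩ := unions_ok
  obtain ⟨sel, hsel, he⟩ := stable_union (fun m hm => cPieces_orb m (List.mem_of_mem_take hm)) hs
    (L := cPieces.take 2) (by rw [h1]; exact hU)
  have h := List.all_eq_true.mp h2 sel hsel
  rw [he, card_maskSet] at h780
  simp only [force_eq, h780, Bool.or_eq_true, Bool.not_eq_true', Nat.beq_eq] at h
  rcases h with h' | h'
  · exact absurd h' (by decide)
  · rw [he, h']

theorem stable_eR_two {U : Finset (Fin 4060)} (hU : U ⊆ DTwo) (he' : eR ∉ U)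
    (hs : Stable (fixIn M eR) U) (h975 : U.card = 975) : U = maskSet adjC2 := by
  obtain ⟨-, -, -, -, -, h1, -, h2, -⟩ := unions_ok
  obtain ⟨sel, hsel, he⟩ := stable_union (fun m hm => cPieces_orb m (List.mem_of_mem_drop hm)) hs
    (L := cPieces.drop 2) (fun c hc => by
      have := hU hc
      rw [DTwo, ← h1, maskSet_lor, Finset.mem_union] at this
      rcases this with h | h
      · exact h
      · exact absurd ((mem_two_pow_mask (r := eR)).mp h ▸ hc) he')
  have h := List.all_eq_true.mp h2 sel hsel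
  rw [he, card_maskSet] at h975
  simp only [force_eq, h975, Bool.or_eq_true, Bool.not_eq_true', Nat.beq_eq] at h
  rcases h with h' | h'
  · exact absurd h' (by decide)
  · rw [he, h']

end H57.RUU
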