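import Cfsg.Agent.H57.RuUniq.Orbits
import Cfsg.Agent.H57.RuUniq.SmallAct

/-!
Subgroups of index 1755 of the point stabiliser are point stabilisers.
-/

set_option autoImplicit false
set_option maxRecDepth 100000

noncomputable section

namespace H57.RUU

open H93.Coset (force force_eq allRange allRange_spec ev ev_append)

/-- the words of the Sylow two subgroup -/
def uWords : List (List ℕ) := uPc.map (·.1)

/-- the commutator of two of these words -/
def commW (i j : ℕ) : List ℕ :=
  invW (uWords.getD i []) ++ invW (uWords.getD j []) ++ uWords.getD i [] ++ uWords.getD j []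

theorem u_ok : uWords.all (fun w => below 8 w && Nat.beq (tgt w 1) 1) = true ∧
    chOK uSChain [] = true ∧ chProd uSChain = 4096 ∧ uIdx.length = uSChain.length ∧
    ((List.range uSChain.length).all fun i =>
      let ws := (uSChain.getD i (0, [], [])).2.1
      let ix := uIdx.getD i []
      Nat.beq ix.length ws.length &&
        (List.range ws.length).all fun k => eqW (ws.getD k []) (comp uWords (ix.getD k []))) = true := by
  decide +kernel

theorem comm_ok : uComm.all (fun e => Nat.blt e.1 uWords.length && Nat.blt e.2.1 uWords.length &&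
      eqW e.2.2 (commW e.1 e.2.1)) = true ∧
    allRange 1 1755 (fun y => uFix.any (Nat.beq y) || uComm.any fun e => !(Nat.beq (tgt e.2.2 y) y)) = true ∧
    uFix.length = 3 := by
  decide +kernel

theorem isPGroup_U : IsPGroup 2 (gensSub uWords) :=
  haveI : Fact (Nat.Prime 2) := ⟨by norm_num⟩
  pc_isPGroup' (p := 2) (ls := uPc) (by decide +kernel)

theorem uWord_below {w : List ℕ} (hw : w ∈ uWords) : below 8 w = true := by
  have h := List.all_eq_true.mp u_ok.1 w hw
  rw [Bool.and_eq_true] at h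
  exact h.1

theorem U_le : gensSub uWords ≤ fixIn M dR := by
  refine gensSub_le fun w hw => ?_
  have h := List.all_eq_true.mp u_ok.1 w hw
  rw [Bool.and_eq_true, Nat.beq_eq] at h
  refine mem_fixIn.mpr ⟨el_mem_M h.1, Fin.ext ?_⟩
  rw [π_el _ (below_mono (by norm_num) h.1)]
  exact h.2

theorem card_U : 4096 ≤ Nat.card (gensSub uWords) := by
  obtain ⟨-, h1, h2, hlen, hidx⟩ := u_ok
  refine chain_card h1 h2 fun L hL w hw => ?_
  obtain ⟨i, hi, rfl⟩ := List.getElem_of_mem hL
  have h := List.all_eq_true.mp hidx i (List.mem_range.mpr hi)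
  simp only [List.getD_eq_getElem _ _ hi, Bool.and_eq_true, Nat.beq_eq, List.all_eq_true, List.mem_range] at h
  obtain ⟨k, hk, rfl⟩ := List.getElem_of_mem hw
  have h2 := h.2 k hk
  rw [List.getD_eq_getElem _ _ hk] at h2
  rw [eqW_el h2]
  exact el_comp_mem (fun v hv => el_mem_gensSub hv) _

/-- an overgroup of the Sylow two subgroup of order 20480 fixes `dR` -/
theorem fix_of_sylow_two {X : Subgroup S} (hXM : X ≤ M) (hX : Nat.card X = 20480)
    (hU : gensSub uWords ≤ X) : X = fixIn M dR := by
  classical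
  refine Subgroup.eq_of_le_of_card_ge ?_ (by rw [hX, card_fix_dR])
  let U' : Subgroup X := (gensSub uWords).subgroupOf X
  have hU'card : Nat.card U' = 4096 := by
    have h1 : Nat.card U' = Nat.card (gensSub uWords) :=
      Nat.card_congr (Subgroup.subgroupOfEquivOfLe hU).toEquiv
    haveI : Fact (Nat.Prime 2) := ⟨by norm_num⟩
    obtain ⟨k, hk⟩ := IsPGroup.iff_card.mp isPGroup_U
    have h2 := Subgroup.card_subgroup_dvd_card U'
    rw [h1, hk, hX] at h2
    have h3 := card_U
    rw [hk] at h3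
    have h4 : 12 ≤ k := (Nat.pow_le_pow_iff_right (a := 2) (by norm_num)).mp (by norm_num; exact h3)
    have h5 : k ≤ 12 := by
      by_contra h
      have : (2 : ℕ) ^ 13 ∣ 20480 := (pow_dvd_pow 2 (show 13 ≤ k by omega)).trans h2
      norm_num at this
    rw [h1, hk, show k = 12 by omega]
    norm_num
  haveI : Fintype (X ⧸ U') := Fintype.ofFinite _
  have hq : Fintype.card (X ⧸ U') = 5 := by
    have h := Subgroup.card_eq_card_quotient_mul_card_subgroup U'
    rw [hX, hU'card, Nat.card_eq_fintype_card] at h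
    omega
  let f : X →* Equiv.Perm (X ⧸ U') := MulAction.toPermHom X (X ⧸ U')
  have hcomm : ∀ u ∈ U', ∀ v ∈ U', f (u * v) = f (v * u) := by
    intro u hu v hv
    rw [map_mul, map_mul]
    refine stab_comm_five hq f.range ?_ ?_ ⟨u, rfl⟩ ⟨v, rfl⟩ (o := ((1 : X) : X ⧸ U')) ?_ ?_
    · intro x y
      obtain ⟨g, hg⟩ := MulAction.exists_smul_eq X x y
      exact ⟨f g, ⟨g, rfl⟩, hg⟩
    · rw [← hX]
      exact Subgroup.card_range_dvd f
    · show u • ((1 : X) : X ⧸ U') = _
      rw [MulAction.Quotient.smul_coe, smul_eq_mul, mul_one, QuotientGroup.eq, mul_one]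
      exact U'.inv_mem hu
    · show v • ((1 : X) : X ⧸ U') = _
      rw [MulAction.Quotient.smul_coe, smul_eq_mul, mul_one, QuotientGroup.eq, mul_one]
      exact U'.inv_mem hv
  have hker : ∀ k ∈ f.ker, (k : X).1 ∈ fixIn M dR := by
    intro k hk
    refine U_le (?_ : k ∈ U')
    have h := congrArg (fun σ : Equiv.Perm (X ⧸ U') => σ ((1 : X) : X ⧸ U')) hk
    simp only [f, MulAction.toPermHom_apply, MulAction.toPerm_apply, Equiv.Perm.one_apply] at h
    rw [MulAction.Quotient.smul_coe, smul_eq_mul, mul_one, QuotientGroup.eq, mul_one] at h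
    simpa using U'.inv_mem h
  let A : Finset (Fin 4060) := DOne.filter fun y => ∀ k ∈ f.ker, π (k : X).1 y = y
  have hd : dR ∈ A := Finset.mem_filter.mpr ⟨dR_mem, fun k hk => (mem_fixIn.mp (hker k hk)).2⟩
  have hinv : ∀ g ∈ X, π g dR ∈ A := by
    intro g hg
    refine Finset.mem_filter.mpr ⟨DOne_inv (hXM hg) dR_mem, fun k hk => ?_⟩
    have h := (mem_fixIn.mp (hker ((⟨g, hg⟩ : X)⁻¹ * k * ⟨g, hg⟩) (by
      rw [MonoidHom.mem_ker] at hk ⊢
      rw [map_mul, map_mul, hk, mul_one, map_inv, inv_mul_cancel]))).2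
    simp only [Subgroup.coe_mul, Subgroup.coe_inv, map_mul, map_inv, Equiv.Perm.mul_apply,
      Equiv.Perm.inv_eq_iff_eq] at h
    exact h
  have hA : ∀ y ∈ A, y.val ∈ uFix := by
    intro y hy
    obtain ⟨hy1, hy2⟩ := Finset.mem_filter.mp hy
    have hy1' : 1 ≤ y.val ∧ y.val < 1756 := by
      by_contra hcon
      rcases Nat.eq_zero_or_pos y.val with h0 | h0
      · exact zero_not_one ((Fin.ext h0 : y = 0) ▸ hy1)
      · have h2 := mem_maskSet.mp hy1
        have hge : 1756 ≤ y.val := by omega
        have hlt : maskOne < 2 ^ y.val := lt_of_lt_of_le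
          (Nat.sub_lt (Nat.two_pow_pos _) (by norm_num)) (Nat.pow_le_pow_right (by norm_num) hge)
        rw [Nat.testBit_lt_two_pow hlt] at h2
        exact Bool.false_ne_true h2
    have h := allRange_spec comm_ok.2.1 y.val hy1'.1 (by omega)
    simp only [Bool.or_eq_true, List.any_eq_true, Bool.not_eq_true'] at h
    rcases h with ⟨z, hz, he⟩ | ⟨e, he, hmv⟩
    · rwa [Nat.beq_eq.mp he]
    · exfalso
      have hc := List.all_eq_true.mp comm_ok.1 e he
      simp only [Bool.and_eq_true, Nat.blt_eq] at hc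
      obtain ⟨⟨hi, hj⟩, hw⟩ := hc
      have hmi : uWords.getD e.1 [] ∈ uWords := by
        rw [List.getD_eq_getElem _ _ hi]; exact List.getElem_mem hi
      have hmj : uWords.getD e.2.1 [] ∈ uWords := by
        rw [List.getD_eq_getElem _ _ hj]; exact List.getElem_mem hj
      set u : X := ⟨el (uWords.getD e.1 []), hU (el_mem_gensSub hmi)⟩ with hu
      set v : X := ⟨el (uWords.getD e.2.1 []), hU (el_mem_gensSub hmj)⟩ with hv
      have hk : v * u * v⁻¹ * u⁻¹ ∈ f.ker := by
        rw [MonoidHom.mem_ker, map_mul, map_mul, map_inv, map_inv,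
          hcomm v (Subgroup.mem_subgroupOf.mpr (el_mem_gensSub hmj)) u
            (Subgroup.mem_subgroupOf.mpr (el_mem_gensSub hmi)), map_mul]
        group
      have h1 := hy2 _ hk
      have h3 : el e.2.2 = ((v * u * v⁻¹ * u⁻¹ : X) : S) := by
        rw [eqW_el hw, commW, el_append, el_append, el_append, el_invW (uWord_below hmi),
          el_invW (uWord_below hmj)]
        simp [hu, hv, mul_assoc]
      rw [← h3] at h1
      have h4 := π_el e.2.2 (below_mono (by norm_num) (eqW_below hw).1) y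
      rw [h1] at h4
      rw [← h4] at hmv
      simp at hmv
  intro g hg
  have horb : (orb X dR).card ≤ 3 := by
    have h1 : orb X dR ⊆ A := fun c hc => by
      obtain ⟨x, hx, rfl⟩ := mem_orb.mp hc
      exact hinv x hx
    calc (orb X dR).card ≤ A.card := Finset.card_le_card h1
      _ ≤ uFix.toFinset.card := Finset.card_le_card_of_injOn Fin.val
          (fun y hy => List.mem_toFinset.mpr (hA y hy)) Fin.val_injective.injOn
      _ ≤ uFix.length := uFix.toFinset_card_le
      _ ≤ 3 := comm_ok.2.2.le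
  have hmul := card_orb_mul X dR
  rw [hX] at hmul
  have hdvd : 4096 ∣ Nat.card (fixIn X dR) := by
    have h : gensSub uWords ≤ fixIn X dR := fun u hu =>
      mem_fixIn.mpr ⟨hU hu, (mem_fixIn.mp (U_le hu)).2⟩
    have h1 := Subgroup.card_dvd_of_le h
    rwa [← Nat.card_congr (Subgroup.subgroupOfEquivOfLe hU).toEquiv, hU'card] at h1
  obtain ⟨k, hk⟩ := hdvd
  rw [hk] at hmul
  have h5 : (orb X dR).card * k = 5 := by
    rw [Nat.mul_left_comm] at hmul
    omega
  have hone : (orb X dR).card = 1 := by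
    rcases (Nat.dvd_prime (by norm_num : Nat.Prime 5)).mp ⟨k, h5.symm⟩ with h | h <;> omega
  obtain ⟨t, ht⟩ := Finset.card_eq_one.mp hone
  have e1 : π g dR ∈ orb X dR := mem_orb.mpr ⟨g, hg, rfl⟩
  have e2 : dR ∈ orb X dR := mem_orb.mpr ⟨1, X.one_mem, by simp⟩
  rw [ht, Finset.mem_singleton] at e1 e2
  exact mem_fixIn.mpr ⟨hXM hg, e1.trans e2.symm⟩

/-- subgroups of index 1755 of `M` are point stabilisers -/
theorem index_1755 {X : Subgroup S} (hXM : X ≤ M) (hX : Nat.card X = 20480) :
    ∃ d ∈ DOne, X = fixIn M d := by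
  haveI : Fact (Nat.Prime 2) := ⟨by norm_num⟩
  obtain ⟨m, hm, hmX⟩ := exists_conj_mem (p := 2) (k := 12) (Q := gensSub uWords) (X := X)
    (U_le.trans inf_le_left) hXM isPGroup_U (by decide +kernel) (by rw [hX]; norm_num)
  refine ⟨π m dR, DOne_inv hm dR_mem, ?_⟩
  have h := fix_of_sylow_two (X := X.map (MulAut.conj m⁻¹).toMonoidHom)
    (by rintro _ ⟨x, hx, rfl⟩; exact M.mul_mem (M.mul_mem (M.inv_mem hm) (hXM hx)) (by simpa using hm))
    (by rw [← hX]; exact Nat.card_congr (X.equivMapOfInjective _ (MulAut.conj m⁻¹).injective).symm.toEquiv)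
    (fun q hq => ⟨m * q * m⁻¹, hmX q hq, by simp [MulAut.conj_apply, mul_assoc]⟩)
  rw [← fix_conj hm, ← h, Subgroup.map_map]
  convert (Subgroup.map_id X).symm using 2
  ext x
  simp [mul_assoc]

end H57.RUU
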